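import Groth.Agent.L15.LocPres.Basic
import Groth.Agent.L15.KFlatSite.ToSheafColim
import Mathlib.CategoryTheory.Limits.ConcreteCategory.Basic
import Mathlib.CategoryTheory.Sites.Limits
import Mathlib.Algebra.Category.Grp.FilteredColimits
import Mathlib.CategoryTheory.Limits.Types.Filtered
import Mathlib.CategoryTheory.Limits.Preserves.Filtered

/-! Filtered colimits of sheaves of modules, in terms of sections. -/

set_option autoImplicit false

universe u

open CategoryTheory CategoryTheory.Limits Opposite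

noncomputable section

namespace Groth.L15.LocPres

open Groth.L15.FlatCrit Groth.L15.PullFlat

variable {C : Type u} [SmallCategory C] {J : GrothendieckTopology C} {O : Sheaf J CommRingCat.{u}}
  {Λ : Type u} [SmallCategory Λ] [IsFiltered Λ] {D : Λ ⥤ ModSite.Mod O}

/-- The value of a morphism of modules on sections. -/
abbrev ap {M N : ModSite.Mod O} (f : M ⟶ N) {U : C} : ModSite.sect M U →+ ModSite.sect N U :=
  (f.val.app (op U)).hom.toAddMonoidHom

theorem ap_comp {M N K : ModSite.Mod O} (f : M ⟶ N) (g : N ⟶ K) {U : C} (x : ModSite.sect M U) :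
    ap (f ≫ g) x = ap g (ap f x) := rfl

theorem ap_w (c : Cocone D) {j k : Λ} (f : j ⟶ k) {U : C} (x : ModSite.sect (D.obj j) U) :
    ap (c.ι.app k) (ap (D.map f) x) = ap (c.ι.app j) x :=
  congr(($(c.w f)).val.app (op U) x)

theorem rs_ap {M N : ModSite.Mod O} (f : M ⟶ N) {U V : C} (g : V ⟶ U) (x : ModSite.sect M U) :
    rs N g (ap f x) = ap f (rs M g x) :=
  Groth.L15.ExtSupp.res_natural f g x

section Elements

variable {c : Cocone D} (hc : IsColimit c)
include hc

/-- The presheaf of groups of the colimit, compared with the colimit of presheaves. -/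
theorem exists_presheaf_comparison :
    ∃ (E : Cocone (D ⋙ SheafOfModules.toSheaf.{u} (ModSite.ringSh O) ⋙ sheafToPresheaf J AddCommGrpCat.{u}))
      (_ : IsColimit E)
      (t : E.pt ⟶ ((SheafOfModules.toSheaf.{u} (ModSite.ringSh O)).obj c.pt).obj),
      (∀ j, E.ι.app j ≫ t = ((SheafOfModules.toSheaf.{u} (ModSite.ringSh O)).map (c.ι.app j)).hom) ∧
        Presheaf.IsLocallySurjective J t ∧ Presheaf.IsLocallyInjective J t := by
  let K := D ⋙ SheafOfModules.toSheaf.{u} (ModSite.ringSh O)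
  let E : Cocone (K ⋙ sheafToPresheaf J AddCommGrpCat.{u}) := colimit.cocone _
  let c' : Cocone K := (SheafOfModules.toSheaf.{u} (ModSite.ringSh O)).mapCocone c
  haveI := Groth.L15.KFlatSite.preservesColimits_toSheaf (ModSite.ringSh O)
  have hc' : IsColimit c' := isColimitOfPreserves _ hc
  let e := (Sheaf.isColimitSheafifyCocone E (colimit.isColimit _)).coconePointUniqueUpToIso hc'
  let e' : CategoryTheory.sheafify J E.pt ≅ ((SheafOfModules.toSheaf.{u} (ModSite.ringSh O)).obj c.pt).obj :=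
    (sheafToPresheaf J AddCommGrpCat.{u}).mapIso e
  refine ⟨E, colimit.isColimit _, CategoryTheory.toSheafify J E.pt ≫ e'.hom, fun j => ?_, ?_, ?_⟩
  · have h0 := (Sheaf.isColimitSheafifyCocone E (colimit.isColimit _)).comp_coconePointUniqueUpToIso_hom hc' j
    refine Eq.trans ?_ (congrArg (fun f : K.obj j ⟶ c'.pt => f.hom) h0)
    refine (Category.assoc (E.ι.app j) (CategoryTheory.toSheafify J E.pt) e'.hom).symm.trans ?_
    exact congrArg (fun m : (K.obj j).obj ⟶ CategoryTheory.sheafify J E.pt => m ≫ e'.hom)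
      (Sheaf.sheafifyCocone_ι_app_val E j).symm
  · infer_instance
  · infer_instance

/-- A section of a filtered colimit comes locally from some stage. -/
theorem exists_lift {U : C} (x : ModSite.sect c.pt U) :
    ∃ S ∈ J U, ∀ ⦃V : C⦄ (g : V ⟶ U), S g → ∃ (j : Λ) (y : ModSite.sect (D.obj j) V),
      ap (c.ι.app j) y = rs c.pt g x := by
  obtain ⟨E, hE, t, ht, hs, -⟩ := exists_presheaf_comparison hc
  refine ⟨_, Presheaf.imageSieve_mem J t (U := op U) x, fun V g hg => ?_⟩
  obtain ⟨w, hw⟩ := hg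
  have hV := isColimitOfPreserves ((evaluation Cᵒᵖ AddCommGrpCat.{u}).obj (op V)) hE
  obtain ⟨j, y, rfl⟩ := Concrete.isColimit_exists_rep _ hV w
  refine ⟨j, y, Eq.trans ?_ hw⟩
  exact congr(($(ht j)).app (op V) y).symm

/-- A section vanishing in a filtered colimit vanishes locally at a later stage. -/
theorem exists_zero {U : C} (j : Λ) (x : ModSite.sect (D.obj j) U) (hx : ap (c.ι.app j) x = 0) :
    ∃ S ∈ J U, ∀ ⦃V : C⦄ (g : V ⟶ U), S g → ∃ (k : Λ) (f : j ⟶ k), ap (D.map f) (rs (D.obj j) g x) = 0 := by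
  obtain ⟨E, hE, t, ht, -, hi⟩ := exists_presheaf_comparison hc
  let w : E.pt.obj (op U) := (E.ι.app j).app (op U) x
  have h0 : t.app (op U) w = t.app (op U) 0 := by
    rw [map_zero]
    exact (congr(($(ht j)).app (op U) x)).trans hx
  refine ⟨_, Presheaf.equalizerSieve_mem J t (X := op U) w 0 h0, fun V g hg => ?_⟩
  have hV := isColimitOfPreserves ((evaluation Cᵒᵖ AddCommGrpCat.{u}).obj (op V)) hE
  have h1 : (E.ι.app j).app (op V) (rs (D.obj j) g x) = (E.ι.app j).app (op V) 0 := by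
    rw [map_zero]
    refine (congr(($((E.ι.app j).naturality g.op)) x)).trans ?_
    exact (show E.pt.map g.op w = E.pt.map g.op 0 from hg).trans (map_zero _)
  obtain ⟨k, f, f', hk⟩ := (Concrete.isColimit_rep_eq_iff_exists _ hV (rs (D.obj j) g x) (0 : ModSite.sect (D.obj j) V)).1 h1
  refine ⟨k, f, hk.trans ?_⟩
  exact map_zero (ap (D.map f') (U := V))

/-- Finitely many sections of a filtered colimit come locally from one stage. -/
theorem exists_lifts {n : ℕ} {U : C} (x : Fin n → ModSite.sect c.pt U) :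
    ∃ S ∈ J U, ∀ ⦃V : C⦄ (g : V ⟶ U), S g → ∃ (j : Λ) (y : Fin n → ModSite.sect (D.obj j) V),
      ∀ i, ap (c.ι.app j) (y i) = rs c.pt g (x i) := by
  induction n generalizing U with
  | zero =>
    haveI : Nonempty Λ := IsFiltered.nonempty
    exact ⟨⊤, J.top_mem U, fun V g _ => ⟨Classical.arbitrary Λ, fun i => i.elim0, fun i => i.elim0⟩⟩
  | succ n ih =>
    obtain ⟨S, hS, hd⟩ := exists_lift hc (x 0)
    refine exists_sieve_bind _ hS fun V g hg => ?_
    obtain ⟨j₀, y₀, hy₀⟩ := hd g hg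
    obtain ⟨T, hT, hTd⟩ := ih (fun i : Fin n => rs c.pt g (x i.succ))
    refine ⟨T, hT, fun W h hh => ?_⟩
    obtain ⟨j₁, y, hy⟩ := hTd h hh
    refine ⟨IsFiltered.max j₀ j₁, Fin.cons (ap (D.map (IsFiltered.leftToMax j₀ j₁)) (rs (D.obj j₀) h y₀))
      (fun i => ap (D.map (IsFiltered.rightToMax j₀ j₁)) (y i)), Fin.cases ?_ ?_⟩
    · simp only [Fin.cons_zero]
      refine (ap_w c (IsFiltered.leftToMax j₀ j₁) _).trans ((rs_ap (c.ι.app j₀) h y₀).symm.trans ?_)
      exact (congrArg (rs c.pt h) hy₀).trans (rs_rs _ _ _ _)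
    · intro i
      simp only [Fin.cons_succ]
      exact (ap_w c (IsFiltered.rightToMax j₀ j₁) _).trans ((hy i).trans (rs_rs _ _ _ _))

/-- Finitely many sections vanishing in a filtered colimit vanish locally at one later stage. -/
theorem exists_zeros {n : ℕ} {U : C} (j : Λ) (x : Fin n → ModSite.sect (D.obj j) U)
    (hx : ∀ i, ap (c.ι.app j) (x i) = 0) :
    ∃ S ∈ J U, ∀ ⦃V : C⦄ (g : V ⟶ U), S g →
      ∃ (k : Λ) (f : j ⟶ k), ∀ i, ap (D.map f) (rs (D.obj j) g (x i)) = 0 := by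
  induction n generalizing U with
  | zero => exact ⟨⊤, J.top_mem U, fun V g _ => ⟨j, 𝟙 j, fun i => i.elim0⟩⟩
  | succ n ih =>
    obtain ⟨S, hS, hd⟩ := exists_zero hc j (x 0) (hx 0)
    refine exists_sieve_bind _ hS fun V g hg => ?_
    obtain ⟨k₀, f₀, hf₀⟩ := hd g hg
    obtain ⟨T, hT, hTd⟩ := ih (fun i : Fin n => rs (D.obj j) g (x i.succ)) (fun i => by
      rw [← rs_ap, hx, map_zero])
    refine ⟨T, hT, fun W h hh => ?_⟩
    obtain ⟨k₁, f₁, hf₁⟩ := hTd h hh
    obtain ⟨k, p, q, hpq⟩ := IsFiltered.span f₀ f₁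
    refine ⟨k, f₀ ≫ p, Fin.cases ?_ ?_⟩
    · rw [D.map_comp, ap_comp, ← rs_rs, ← rs_ap, hf₀, map_zero, map_zero]
    · intro i
      rw [hpq, D.map_comp, ap_comp, ← rs_rs, hf₁, map_zero]

end Elements

/-- A cocone of modules which locally has all sections and all equalities of a colimit is a colimit. -/
theorem nonempty_isColimit_of (c : Cocone D)
    (h1 : ∀ (U : C) (x : ModSite.sect c.pt U), ∃ S ∈ J U, ∀ ⦃V : C⦄ (g : V ⟶ U), S g →
      ∃ (j : Λ) (y : ModSite.sect (D.obj j) V), ap (c.ι.app j) y = rs c.pt g x)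
    (h2 : ∀ (U : C) (j : Λ) (x : ModSite.sect (D.obj j) U), ap (c.ι.app j) x = 0 →
      ∃ S ∈ J U, ∀ ⦃V : C⦄ (g : V ⟶ U), S g → ∃ (k : Λ) (f : j ⟶ k), ap (D.map f) (rs (D.obj j) g x) = 0) :
    Nonempty (IsColimit c) := by
  haveI := Groth.L10.shMod_isGrothendieckAbelian (ModSite.ringSh O)
  let c₀ := colimit.cocone D
  have hc₀ : IsColimit c₀ := colimit.isColimit D
  let d : c₀.pt ⟶ c.pt := hc₀.desc c
  have hd : ∀ (j : Λ) (U : C) (y : ModSite.sect (D.obj j) U), ap d (ap (c₀.ι.app j) y) = ap (c.ι.app j) y :=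
    fun j U y => congr(($(hc₀.fac c j)).val.app (op U) y)
  have hinj : ∀ U, Function.Injective (ap d (U := U)) := fun U => by
    refine (injective_iff_map_eq_zero _).2 fun x hx => ?_
    obtain ⟨S, hS, hSd⟩ := exists_lift hc₀ x
    refine Groth.L15.ExtSupp.sect_ext c₀.pt S hS _ 0 fun V g hg => ?_
    show rs c₀.pt g x = rs c₀.pt g 0
    rw [map_zero]
    obtain ⟨j, y, hy⟩ := hSd g hg
    have h0 : ap (c.ι.app j) y = 0 := by
      rw [← hd, hy, ← rs_ap, hx, map_zero]
    obtain ⟨T, hT, hTd⟩ := h2 V j y h0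
    rw [← hy]
    refine Groth.L15.ExtSupp.sect_ext c₀.pt T hT _ 0 fun W q hq => ?_
    show rs c₀.pt q _ = rs c₀.pt q 0
    rw [map_zero, rs_ap]
    obtain ⟨k, f, hf⟩ := hTd q hq
    rw [← ap_w c₀ f, hf, map_zero]
  have hsurj : ∀ U, Function.Surjective (ap d (U := U)) := fun U x => by
    obtain ⟨S, hS, hSd⟩ := h1 U x
    choose j y hy using hSd
    obtain ⟨z, hz⟩ := sect_glue c₀.pt S hS (fun V g hg => ap (c₀.ι.app (j g hg)) (y g hg)) fun V W g hg k => by
      refine hinj W ?_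
      rw [hd, ← rs_ap, hd, hy, hy, rs_rs]
    refine ⟨z, Groth.L15.ExtSupp.sect_ext c.pt S hS _ _ fun V g hg => ?_⟩
    show rs c.pt g (ap d z) = rs c.pt g x
    rw [rs_ap, hz g hg, hd, hy]
  haveI : IsIso d := by
    haveI := Groth.L15.KFlatSite.reflectsIsomorphisms_toSheaf (ModSite.ringSh O)
    haveI : IsIso ((SheafOfModules.toSheaf.{u} (ModSite.ringSh O) ⋙ sheafToPresheaf J AddCommGrpCat.{u}).map d) := by
      haveI : ∀ U, IsIso (((SheafOfModules.toSheaf.{u} (ModSite.ringSh O) ⋙ sheafToPresheaf J AddCommGrpCat.{u}).map d).app U) :=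
        fun U => (ConcreteCategory.isIso_iff_bijective _).2 ⟨hinj U.unop, hsurj U.unop⟩
      exact NatIso.isIso_of_isIso_app _
    haveI : IsIso ((SheafOfModules.toSheaf.{u} (ModSite.ringSh O)).map d) := by
      haveI : IsIso ((sheafToPresheaf J AddCommGrpCat.{u}).map ((SheafOfModules.toSheaf.{u} (ModSite.ringSh O)).map d)) := by
        assumption
      exact isIso_of_reflects_iso _ (sheafToPresheaf J AddCommGrpCat.{u})
    exact isIso_of_reflects_iso d (SheafOfModules.toSheaf.{u} (ModSite.ringSh O))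
  exact ⟨IsColimit.ofPointIso (t := c) hc₀⟩

end Groth.L15.LocPres
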