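import Groth.Agent.L15.LocPres.GlobalHom
import Mathlib.CategoryTheory.Sites.Spaces
import Mathlib.Topology.Sets.Opens
import Mathlib.Topology.Compactness.Compact
import Mathlib.Topology.Category.TopCat.Basic
import Mathlib.CategoryTheory.Filtered.Basic

/-! Global sections of filtered colimits on spaces with enough finite coverings with compact overlaps. -/

set_option autoImplicit false
set_option backward.isDefEq.respectTransparency false

universe u

open CategoryTheory CategoryTheory.Limits Opposite TopologicalSpace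

noncomputable section

namespace Groth.L15.LocPres

open Groth.L15.FlatCrit Groth.L15.PullFlat

variable {X : TopCat.{u}} {O : Sheaf (Opens.grothendieckTopology X) CommRingCat.{u}}
  (hX : ∀ (ι : Type u) (V : ι → Opens X), iSup V = ⊤ →
      ∃ (J : Type u) (_ : Finite J) (U : J → Opens X), iSup U = ⊤ ∧ (∀ j, ∃ i, U j ≤ V i) ∧
        ∀ j j', IsCompact ((U j ⊓ U j' : Opens X) : Set X))
  {Λ : Type u} [SmallCategory Λ] [IsFiltered Λ] {E : Λ ⥤ ModSite.Mod O} {e : Cocone E} (he : IsColimit e)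

omit hX in
/-- The sieve of opens inside a member of a covering. -/
theorem exists_sieve_of_cover {ι : Type*} {U : ι → Opens X} (hU : iSup U = ⊤) (V : Opens X) :
    ∃ S ∈ Opens.grothendieckTopology X V, ∀ ⦃W : Opens X⦄ (g : W ⟶ V), S g ↔ ∃ i, W ≤ U i := by
  let S : Sieve V :=
    { arrows := fun W _ => ∃ i, W ≤ U i
      downward_closed := fun {W W'} _ ⟨i, hi⟩ h => ⟨i, h.le.trans hi⟩ }
  refine ⟨S, fun x hx => ?_, fun W g => Iff.rfl⟩
  obtain ⟨i, hi⟩ := Opens.mem_iSup.1 (show x ∈ iSup U by rw [hU]; trivial)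
  exact ⟨V ⊓ U i, homOfLE inf_le_left, ⟨i, inf_le_right⟩, ⟨hx, hi⟩⟩

include hX he

theorem gZero_space : GZero e := by
  intro j ψ hψ
  let good : Opens X → Prop := fun V => ∃ (k : Λ) (f : j ⟶ k), ap (E.map f) (ψ.φ V) = 0
  have hcov : iSup (fun V : {V : Opens X // good V} => V.1) = ⊤ := by
    refine top_le_iff.1 fun x _ => ?_
    obtain ⟨S, hS, hd⟩ := exists_zero he j (ψ.φ ⊤) (hψ ⊤)
    obtain ⟨W, g, hg, hxW⟩ := hS x trivial
    obtain ⟨k, f, hf⟩ := hd g hg
    exact Opens.mem_iSup.2 ⟨⟨W, k, f, by rw [← ψ.compat g]; exact hf⟩, hxW⟩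
  obtain ⟨T, _, U, hU, hsub, -⟩ := hX _ _ hcov
  choose i hi using hsub
  choose k f hf using fun t : T => (i t).2
  obtain ⟨m, g, hg⟩ := exists_common_stage' k f
  refine ⟨m, g, fun V => ?_⟩
  obtain ⟨S, hS, hSi⟩ := exists_sieve_of_cover hU V
  refine Groth.L15.ExtSupp.sect_ext _ S hS _ 0 fun W q hq => ?_
  show rs _ q (ap (E.map g) (ψ.φ V)) = rs _ q 0
  obtain ⟨t, ht⟩ := (hSi q).1 hq
  obtain ⟨p, hp⟩ := hg t
  have h1 : ap (E.map g) (ψ.φ (i t).1) = 0 := by
    rw [← hp]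
    exact ap_map_zero _ p _ (hf t)
  rw [map_zero, rs_ap, ψ.compat, ← ψ.compat (homOfLE (ht.trans (hi t))), ← rs_ap, h1, map_zero]

theorem gLift_space : GLift e := by
  intro φ
  let good : Opens X → Prop := fun V => ∃ (j : Λ) (y : ModSite.sect (E.obj j) V), ap (e.ι.app j) y = φ.φ V
  have hcov : iSup (fun V : {V : Opens X // good V} => V.1) = ⊤ := by
    refine top_le_iff.1 fun x _ => ?_
    obtain ⟨S, hS, hd⟩ := exists_lift he (φ.φ ⊤)
    obtain ⟨W, g, hg, hxW⟩ := hS x trivial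
    obtain ⟨j, y, hy⟩ := hd g hg
    exact Opens.mem_iSup.2 ⟨⟨W, j, y, hy.trans (φ.compat g)⟩, hxW⟩
  obtain ⟨T, _, U, hU, hsub, hqc⟩ := hX _ _ hcov
  choose i hi using hsub
  choose jj yy hyy using fun t : T => (i t).2
  haveI : Fintype T := Fintype.ofFinite T
  classical
  obtain ⟨j, hj⟩ := IsFiltered.sup_objs_exists (Finset.univ.image jj)
  let y : ∀ t, ModSite.sect (E.obj j) (U t) := fun t =>
    ap (E.map (hj (Finset.mem_image_of_mem jj (Finset.mem_univ t))).some) (rs (E.obj (jj t)) (homOfLE (hi t)) (yy t))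
  have hy : ∀ t, ap (e.ι.app j) (y t) = φ.φ (U t) := fun t => by
    rw [ap_w, ← rs_ap, hyy]
    exact φ.compat _
  have hpair : ∀ a b : T, ∃ (k : Λ) (f : j ⟶ k),
      ap (E.map f) (rs (E.obj j) (homOfLE (inf_le_left : U a ⊓ U b ≤ U a)) (y a)) =
        ap (E.map f) (rs (E.obj j) (homOfLE (inf_le_right : U a ⊓ U b ≤ U b)) (y b)) := by
    intro a b
    let d := rs (E.obj j) (homOfLE (inf_le_left : U a ⊓ U b ≤ U a)) (y a) -
      rs (E.obj j) (homOfLE (inf_le_right : U a ⊓ U b ≤ U b)) (y b)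
    have hd0 : ap (e.ι.app j) d = 0 := by
      rw [map_sub, ← rs_ap, ← rs_ap, hy, hy]
      exact sub_eq_zero.2 ((φ.compat _).trans (φ.compat _).symm)
    obtain ⟨S, hS, hSd⟩ := exists_zero he j d hd0
    let G := {W : Opens X // ∃ g : W ⟶ U a ⊓ U b, S g}
    obtain ⟨s, hs⟩ := (hqc a b).elim_finite_subcover (fun W : G => (W.1 : Set X)) (fun W => W.1.isOpen)
      (fun x hx => by
        obtain ⟨W, g, hg, hxW⟩ := hS x hx
        exact Set.mem_iUnion.2 ⟨⟨W, g, hg⟩, hxW⟩)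
    choose k f hf using fun W : G => hSd W.2.choose W.2.choose_spec
    obtain ⟨m, g, hg⟩ := exists_common_stage' (fun Z : s => k Z.1) fun Z => f Z.1
    refine ⟨m, g, sub_eq_zero.1 ?_⟩
    rw [← map_sub]
    let R : Sieve (U a ⊓ U b) :=
      { arrows := fun W _ => ∃ Z : s, W ≤ Z.1.1
        downward_closed := fun {W W'} _ ⟨Z, hZ⟩ h => ⟨Z, h.le.trans hZ⟩ }
    have hR : R ∈ Opens.grothendieckTopology X (U a ⊓ U b) := fun x hx => by
      obtain ⟨Z, hZs, hxZ⟩ := Set.mem_iUnion₂.1 (hs hx)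
      exact ⟨U a ⊓ U b ⊓ Z.1, homOfLE inf_le_left, ⟨⟨Z, hZs⟩, inf_le_right⟩, ⟨hx, hxZ⟩⟩
    refine Groth.L15.ExtSupp.sect_ext _ R hR _ 0 fun W q hq => ?_
    show rs _ q (ap (E.map g) d) = rs _ q 0
    obtain ⟨Z, hZ⟩ := hq
    obtain ⟨p, hp⟩ := hg Z
    have h1 : ap (E.map g) (rs (E.obj j) Z.1.2.choose d) = 0 := by
      rw [← hp]
      exact ap_map_zero _ p _ (hf Z.1)
    rw [map_zero, show q = homOfLE hZ ≫ Z.1.2.choose from Subsingleton.elim _ _, ← rs_rs, rs_ap, h1, map_zero]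
  choose k f hf using hpair
  obtain ⟨m, g, hg⟩ := exists_common_stage' (fun a : T × T => k a.1 a.2) fun a => f _ _
  let z : ∀ t, ModSite.sect (E.obj m) (U t) := fun t => ap (E.map g) (y t)
  have hz : ∀ (a b : T) (W : Opens X) (ha : W ≤ U a) (hb : W ≤ U b),
      rs (E.obj m) (homOfLE ha) (z a) = rs (E.obj m) (homOfLE hb) (z b) := by
    intro a b W ha hb
    obtain ⟨p, hp⟩ := hg (a, b)
    have h1 := congrArg (ap (E.map p)) (hf a b)
    rw [← ap_comp, ← ap_comp, ← E.map_comp, hp, ← rs_ap, ← rs_ap] at h1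
    have h2 := congrArg (rs (E.obj m) (homOfLE (le_inf ha hb))) h1
    rw [rs_rs, rs_rs] at h2
    exact h2
  have hglue : ∀ V, ∃ w : ModSite.sect (E.obj m) V, ∀ (t : T) (W : Opens X) (q : W ⟶ V) (ht : W ≤ U t),
      rs (E.obj m) q w = rs (E.obj m) (homOfLE ht) (z t) := by
    intro V
    obtain ⟨S, hS, hSi⟩ := exists_sieve_of_cover hU V
    obtain ⟨w, hw⟩ := sect_glue (E.obj m) S hS
      (fun W q hq => rs (E.obj m) (homOfLE ((hSi q).1 hq).choose_spec) (z _))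
      (fun W W' q hq r => by
        rw [rs_rs]
        exact hz _ _ W' _ _)
    exact ⟨w, fun t W q ht => (hw q ((hSi q).2 ⟨t, ht⟩)).trans (hz _ _ W _ _)⟩
  choose w hw using hglue
  refine ⟨m, ⟨w, fun V V' r => ?_⟩, fun V => ?_⟩
  · obtain ⟨S, hS, hSi⟩ := exists_sieve_of_cover hU V'
    refine Groth.L15.ExtSupp.sect_ext _ S hS _ _ fun W q hq => ?_
    obtain ⟨t, ht⟩ := (hSi q).1 hq
    show rs _ q (rs _ r (w V)) = rs _ q (w V')
    rw [rs_rs, hw V t W _ ht, hw V' t W q ht]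
  · obtain ⟨S, hS, hSi⟩ := exists_sieve_of_cover hU V
    refine Groth.L15.ExtSupp.sect_ext _ S hS _ _ fun W q hq => ?_
    obtain ⟨t, ht⟩ := (hSi q).1 hq
    show rs _ q (ap (e.ι.app m) (w V)) = rs _ q (φ.φ V)
    rw [rs_ap, hw V t W q ht, ← rs_ap, ap_w, hy]
    exact (φ.compat _).trans (φ.compat _).symm

end Groth.L15.LocPres
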