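import Groth.Agent.L15.LocPres.Eval
import Groth.Agent.L15.LocPres.FilColim

/-! The internal hom out of a finitely presented module commutes with filtered colimits. -/

set_option autoImplicit false
set_option backward.isDefEq.respectTransparency false

universe u

open CategoryTheory CategoryTheory.Limits Opposite

noncomputable section

namespace Groth.L15.LocPres

open Groth.L15.FlatCrit Groth.L15.PullFlat

variable {C : Type u} [SmallCategory C] {J : GrothendieckTopology C} {O : Sheaf J CommRingCat.{u}}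
  {Λ : Type u} [SmallCategory Λ] [IsFiltered Λ] {D : Λ ⥤ ModSite.Mod O}
  (F : ModSite.Mod O) [ModSite.HasSheafHom F]

theorem evL_ap {B B' : ModSite.Mod O} (b : B ⟶ B') {W : C} (φ : HomS F B W) (e : ModSite.sect F W) :
    evL F (ap ((ModSite.sheafHom F).map b) φ) e = ap b (evL F φ e) :=
  evL_map F b φ e

theorem evL_move {B : ModSite.Mod O} {U V W : C} (φ : HomS F B U) (g : V ⟶ U) (h : W ⟶ V) (e : ModSite.sect F V) :
    rs B h (evL F (rs _ g φ) e) = evL F (rs _ (h ≫ g) φ) (rs F h e) := by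
  rw [evL_res, rs_rs]

theorem evL_zero {B : ModSite.Mod O} {W : C} (e : ModSite.sect F W) : evL F (0 : HomS F B W) e = 0 := by
  rw [map_zero]
  rfl

theorem sum_rel {B : ModSite.Mod O} {W : C} (P : LPres F W) (φ : HomS F B W) (l : Fin P.p) :
    ∑ i, P.a l i • evL F φ (P.s i) = 0 :=
  (Finset.sum_congr rfl fun i _ => (map_smul (evL F φ) (P.a l i) (P.s i)).symm).trans
    ((map_sum (evL F φ) _ _).symm.trans ((congrArg (evL F φ) (P.rel l)).trans (map_zero _)))

variable [SheafOfModules.IsFinitePresentation (R := ModSite.ringSh O) F] {c : Cocone D} (hc : IsColimit c)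
include hc

theorem exists_lift_hom {U : C} (φ : HomS F c.pt U) :
    ∃ S ∈ J U, ∀ ⦃V : C⦄ (g : V ⟶ U), S g → ∃ (j : Λ) (ψ : HomS F (D.obj j) V),
      ap ((ModSite.sheafHom F).map (c.ι.app j)) ψ = rs _ g φ := by
  obtain ⟨S, hS, hd⟩ := exists_cover F U
  refine exists_sieve_bind _ hS fun V g hg => ?_
  obtain ⟨P⟩ := hd g hg
  obtain ⟨T, hT, hTd⟩ := exists_lifts hc (fun i => evL F (rs ((ModSite.sheafHom F).obj c.pt) g φ) (P.s i))
  refine exists_sieve_bind _ hT fun W h hh => ?_
  obtain ⟨j, y, hy⟩ := hTd h hh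
  have hy' : ∀ i, ap (c.ι.app j) (y i) = evL F (rs _ (h ≫ g) φ) ((P.res h).s i) := fun i =>
    (hy i).trans (evL_move F φ g h (P.s i))
  have hz : ∀ l, ap (c.ι.app j) (∑ i, rr O h (P.a l i) • y i) = 0 := fun l => by
    refine (map_sum (ap (c.ι.app j) (U := W)) _ _).trans
      ((Finset.sum_congr rfl fun i _ => ?_).trans (sum_rel F (P.res h) (rs _ (h ≫ g) φ) l))
    exact (map_smul ((c.ι.app j).val.app (op W)).hom _ _).trans (congrArg (rr O h (P.a l i) • ·) (hy' i))
  obtain ⟨R, hR, hRd⟩ := exists_zeros hc j _ hz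
  refine ⟨R, hR, fun W' r hr => ?_⟩
  obtain ⟨k, f, hf⟩ := hRd r hr
  let P' := (P.res h).res r
  obtain ⟨φ', hφ'⟩ := P'.exists_desc (B := D.obj k) (fun i => ap (D.map f) (rs (D.obj j) r (y i))) fun l => by
    refine Eq.trans ?_ (hf l)
    rw [map_sum, map_sum]
    refine Finset.sum_congr rfl fun i _ => ?_
    rw [rs_smul]
    exact (map_smul ((D.map f).val.app (op W')).hom _ _).symm
  refine ⟨k, φ', P'.hom_ext _ _ fun i => ?_⟩
  refine (evL_ap F (c.ι.app k) φ' _).trans ((congrArg (ap (c.ι.app k)) (hφ' i)).trans ?_)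
  refine (ap_w c f _).trans ((rs_ap (c.ι.app j) r (y i)).symm.trans ?_)
  simp only [Category.assoc]
  exact (congrArg (rs c.pt r) (hy' i)).trans (evL_move F φ (h ≫ g) r ((P.res h).s i))

theorem exists_zero_hom {U : C} (j : Λ) (φ : HomS F (D.obj j) U)
    (hφ : ap ((ModSite.sheafHom F).map (c.ι.app j)) φ = 0) :
    ∃ S ∈ J U, ∀ ⦃V : C⦄ (g : V ⟶ U), S g → ∃ (k : Λ) (f : j ⟶ k),
      ap ((ModSite.sheafHom F).map (D.map f)) (rs _ g φ) = 0 := by
  obtain ⟨S, hS, hd⟩ := exists_cover F U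
  refine exists_sieve_bind _ hS fun V g hg => ?_
  obtain ⟨P⟩ := hd g hg
  have h0 : ap ((ModSite.sheafHom F).map (c.ι.app j)) (rs _ g φ) = 0 :=
    (rs_ap _ g φ).symm.trans ((congrArg (rs _ g) hφ).trans (map_zero _))
  have hz : ∀ i, ap (c.ι.app j) (evL F (rs _ g φ) (P.s i)) = 0 := fun i =>
    (evL_ap F (c.ι.app j) (rs _ g φ) (P.s i)).symm.trans
      ((congrArg (fun t => evL F t (P.s i)) h0).trans (evL_zero F _))
  obtain ⟨T, hT, hTd⟩ := exists_zeros hc j _ hz
  refine ⟨T, hT, fun W h hh => ?_⟩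
  obtain ⟨k, f, hf⟩ := hTd h hh
  refine ⟨k, f, (P.res h).hom_ext _ _ fun i => ?_⟩
  refine (evL_ap F (D.map f) _ _).trans (Eq.trans ?_ (evL_zero F _).symm)
  exact (congrArg (ap (D.map f)) (evL_move F φ g h (P.s i)).symm).trans (hf i)

/-- The image of a filtered colimit cocone under the internal hom is a colimit. -/
theorem nonempty_isColimit_sheafHom :
    Nonempty (IsColimit ((ModSite.sheafHom F).mapCocone c)) :=
  nonempty_isColimit_of _ (fun _ φ => exists_lift_hom F hc φ) fun _ j φ hφ => exists_zero_hom F hc j φ hφ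

end Groth.L15.LocPres
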