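import Groth.Agent.L15.LocPres.HomColim
import Groth.Agent.L15.PullFlat.Tensor

/-! Internal hom out of a finitely presented module commutes with the tensor product by a flat module. -/

set_option autoImplicit false
set_option backward.isDefEq.respectTransparency false

universe u

open CategoryTheory CategoryTheory.Limits MonoidalCategory Opposite
open TensorProduct (tmul)
open scoped TensorProduct

noncomputable section

namespace Groth.L15.LocPres

open Groth.L00.ModSiteTensor Groth.L15.FlatCrit Groth.L15.PullFlat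

variable {C : Type u} [SmallCategory C] {J : GrothendieckTopology C} {O : Sheaf J CommRingCat.{u}}

theorem exists_cover_forall {U : C} {n : ℕ} (S : Fin n → Sieve U) (hS : ∀ i, S i ∈ J U) :
    ∃ T ∈ J U, ∀ i, T ≤ S i := by
  induction n with
  | zero => exact ⟨⊤, J.top_mem U, fun i => i.elim0⟩
  | succ n ih =>
    obtain ⟨T, hT, hle⟩ := ih (fun i => S i.succ) fun i => hS _
    refine ⟨S 0 ⊓ T, J.intersection_covering (hS 0) hT, Fin.cases inf_le_left fun i => ?_⟩
    exact inf_le_right.trans (hle i)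

section Alg

variable {R : Type u} [CommRing R] {M N : Type u} [AddCommGroup M] [Module R M] [AddCommGroup N] [Module R N]

theorem tmul_swap {ι κ : Type*} [Fintype ι] [Fintype κ] (x : ι → M) (c : ι → κ → R) (u : κ → N) :
    ∑ e, x e ⊗ₜ[R] (∑ l, c e l • u l) = ∑ l, (∑ e, c e l • x e) ⊗ₜ[R] u l := by
  simp only [TensorProduct.tmul_sum, TensorProduct.sum_tmul, TensorProduct.smul_tmul]
  exact Finset.sum_comm

theorem pi_tmul_eq_zero {ι κ : Type u} [Fintype ι] [Fintype κ] [DecidableEq κ] (y : κ → ι → M) (h : ι → N)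
    (h0 : ∀ j, ∑ i, y j i ⊗ₜ[R] h i = 0) : ∑ i, (fun j => y j i) ⊗ₜ[R] h i = 0 := by
  let e := (TensorProduct.comm R (κ → M) N).trans (TensorProduct.piRight R R N (fun _ : κ => M))
  apply e.injective
  rw [map_zero]
  funext j
  have := congrArg (TensorProduct.comm R M N) (h0 j)
  rw [map_sum, map_zero] at this
  simp only [TensorProduct.comm_tmul] at this
  rw [map_sum, Finset.sum_apply]
  exact this

end Alg

/-- A vanishing tensor with a flat module comes locally from vanishing combinations. -/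
theorem exists_trivial {H : ModSite.Mod O} (hH : HasTrivialRelations H) {W : C} {Mo : Type u} [AddCommGroup Mo]
    [Module (O.obj.obj (op W)) Mo] {ι : Type u} [Fintype ι] (y : ι → Mo) (h : ι → ModSite.sect H W)
    (h0 : ∑ i, y i ⊗ₜ[O.obj.obj (op W)] h i = 0) :
    ∃ S ∈ J W, ∀ ⦃V : C⦄ (g : V ⟶ W), S g →
      ∃ (l : ℕ) (t : Fin l → ModSite.sect H V) (c : ι → Fin l → O.obj.obj (op V)),
        (∀ i, rs H g (h i) = ∑ e, c i e • t e) ∧
        ∀ (L : Type u) [AddCommGroup L] [Module (O.obj.obj (op V)) L] (φ : Mo →+ L),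
          (∀ r x, φ (r • x) = rr O g r • φ x) → ∀ e, ∑ i, c i e • φ (y i) = 0 := by
  classical
  obtain ⟨m, p, t', idx, gr, y', hrel, ht', hy'⟩ := exists_relations' y h h0
  obtain ⟨S, hS, hd⟩ := trivial_relations H hH p W m gr t' hrel
  refine ⟨S, hS, fun V g hg => ?_⟩
  obtain ⟨l, t, a, ha1, ha2⟩ := hd g hg
  refine ⟨l, t, fun i e => a (idx i) e, fun i => by rw [← ht' i, ha1], fun L _ _ φ hφ e => ?_⟩
  have e1 : ∀ j, (∑ i, if idx i = j then φ (y i) else 0) = ∑ r, rr O g (gr r j) • φ (y' r) := fun j => by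
    have := congrArg φ (hy' j)
    rw [map_sum, map_sum] at this
    simp only [apply_ite φ, map_zero, hφ] at this
    exact this
  calc ∑ i, a (idx i) e • φ (y i) = ∑ j, a j e • (∑ i, if idx i = j then φ (y i) else 0) := by
        simp only [Finset.smul_sum, smul_ite, smul_zero]
        rw [Finset.sum_comm]
        simp
    _ = ∑ r, (∑ j, a j e * rr O g (gr r j)) • φ (y' r) := by
        simp only [e1, Finset.smul_sum, smul_smul, Finset.sum_smul]
        rw [Finset.sum_comm]
    _ = 0 := Finset.sum_eq_zero fun r _ => by rw [ha2 r e, zero_smul]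

section Presheaf

variable (A B : ModSite.Mod O)

/-- Sections of the tensor product of presheaves. -/
abbrev TP (V : C) : Type u := ModSite.sect A V ⊗[O.obj.obj (op V)] ModSite.sect B V

/-- Restriction of tensors. -/
def resT {V W : C} (g : W ⟶ V) : TP A B V →+ TP A B W :=
  (((preF O).obj A ⊗ (preF O).obj B).map g.op).hom.toAddMonoidHom

theorem resT_tmul {V W : C} (g : W ⟶ V) (x : ModSite.sect A V) (y : ModSite.sect B V) :
    resT A B g (x ⊗ₜ[O.obj.obj (op V)] y) = rs A g x ⊗ₜ[O.obj.obj (op W)] rs B g y :=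
  PresheafOfModules.Monoidal.tensorObj_map_tmul g.op x y

/-- Tensors as sections of the sheaf tensor product. -/
def unitA (V : C) : TP A B V →+ ModSite.sect (ten A B) V := unitT A B V

theorem unitA_tmul {V : C} (x : ModSite.sect A V) (y : ModSite.sect B V) :
    unitA A B V (x ⊗ₜ[O.obj.obj (op V)] y) = tmulS A B V x y := rfl

theorem unitA_smul {V : C} (r : O.obj.obj (op V)) (z : TP A B V) : unitA A B V (r • z) = r • unitA A B V z :=
  map_smul ((Groth.L00.ModSiteTensor.unit ((preF O).obj A ⊗ (preF O).obj B)).app (op V)).hom r z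

theorem unitA_res {V W : C} (g : W ⟶ V) (z : TP A B V) :
    rs (ten A B) g (unitA A B V z) = unitA A B W (resT A B g z) :=
  (PresheafOfModules.naturality_apply (Groth.L00.ModSiteTensor.unit ((preF O).obj A ⊗ (preF O).obj B)) g.op z).symm

theorem exists_unitA_zeros {V : C} {n : ℕ} (z : Fin n → TP A B V) (hz : ∀ i, unitA A B V (z i) = 0) :
    ∃ S ∈ J V, ∀ ⦃W : C⦄ (g : W ⟶ V), S g → ∀ i, resT A B g (z i) = 0 := by
  let Q : PMo O := (preF O).obj A ⊗ (preF O).obj B
  have h0 : ∀ i, (CategoryTheory.toSheafify J Q.presheaf).app (op V) (z i) =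
      (CategoryTheory.toSheafify J Q.presheaf).app (op V) 0 := fun i => by
    rw [map_zero]
    exact hz i
  obtain ⟨T, hT, hle⟩ := exists_cover_forall (J := J) _ fun i =>
    Presheaf.equalizerSieve_mem J (CategoryTheory.toSheafify J Q.presheaf) (X := op V) (z i) 0 (h0 i)
  refine ⟨T, hT, fun W g hg i => ?_⟩
  exact (show Q.presheaf.map g.op (z i) = Q.presheaf.map g.op 0 from hle i _ hg).trans (map_zero _)

theorem exists_unitA_lifts {V : C} {n : ℕ} (v : Fin n → ModSite.sect (ten A B) V) :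
    ∃ S ∈ J V, ∀ ⦃W : C⦄ (g : W ⟶ V), S g → ∃ z : Fin n → TP A B W, ∀ i, unitA A B W (z i) = rs (ten A B) g (v i) := by
  let Q : PMo O := (preF O).obj A ⊗ (preF O).obj B
  obtain ⟨T, hT, hle⟩ := exists_cover_forall (J := J) _ fun i =>
    Presheaf.imageSieve_mem J (CategoryTheory.toSheafify J Q.presheaf) (U := op V) (v i)
  refine ⟨T, hT, fun W g hg => ?_⟩
  choose z hz using fun i => hle i _ hg
  exact ⟨z, hz⟩

end Presheaf

variable (F G H : ModSite.Mod O) [ModSite.HasSheafHom F]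

/-- The comparison map, on presheaves. -/
def thetaP : (preF O).obj ((ModSite.sheafHom F).obj G) ⊗ (preF O).obj H ⟶
    (preF O).obj ((ModSite.sheafHom F).obj (ten G H)) :=
  (Groth.L17.LocBases.ψ F (ten G H) _).symm
    ((α_ _ _ _).hom ≫ _ ◁ (β_ ((preF O).obj H) ((preF O).obj F)).hom ≫ (α_ _ _ _).inv ≫
      Groth.L17.LocBases.evp F G ▷ (preF O).obj H ≫
        Groth.L00.ModSiteTensor.unit ((preF O).obj G ⊗ (preF O).obj H))

/-- The comparison map on tensors. -/
def thetaA (V : C) : TP ((ModSite.sheafHom F).obj G) H V →+ HomS F (ten G H) V :=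
  ((thetaP F G H).app (op V)).hom.toAddMonoidHom

theorem thetaA_res {V W : C} (g : W ⟶ V) (z : TP ((ModSite.sheafHom F).obj G) H V) :
    rs _ g (thetaA F G H V z) = thetaA F G H W (resT _ H g z) :=
  (PresheafOfModules.naturality_apply (thetaP F G H) g.op z).symm

theorem evL_thetaA {V : C} (ξ : HomS F G V) (t : ModSite.sect H V) (e : ModSite.sect F V) :
    evL F (thetaA F G H V (ξ ⊗ₜ[O.obj.obj (op V)] t)) e = tmulS G H V (evL F ξ e) t := by
  refine (Groth.L17.LocBases.ψ_app F (thetaP F G H) (W := V) (ξ ⊗ₜ[O.obj.obj (op V)] t) e).symm.trans ?_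
  rw [thetaP, AddEquiv.apply_symm_apply]
  rfl

theorem evL_thetaA_sum {V : C} {κ : Type*} [Fintype κ] (ξ : κ → HomS F G V) (t : κ → ModSite.sect H V)
    (e : ModSite.sect F V) :
    evL F (thetaA F G H V (∑ k, ξ k ⊗ₜ[O.obj.obj (op V)] t k)) e =
      unitA G H V (∑ k, evL F (ξ k) e ⊗ₜ[O.obj.obj (op V)] t k) := by
  rw [map_sum, map_sum, LinearMap.sum_apply, map_sum]
  exact Finset.sum_congr rfl fun k _ => evL_thetaA F G H (ξ k) (t k) e

variable [SheafOfModules.IsFinitePresentation (R := ModSite.ringSh O) F]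
  {F G H} (hH : HasTrivialRelations H)
include hH

theorem thetaA_locally_injective {U : C} (z : TP ((ModSite.sheafHom F).obj G) H U) (hz : thetaA F G H U z = 0) :
    ∃ S ∈ J U, ∀ ⦃V : C⦄ (g : V ⟶ U), S g → resT _ H g z = 0 := by
  classical
  obtain ⟨S, hS, hd⟩ := exists_cover F U
  refine exists_sieve_bind _ hS fun V g hg => ?_
  obtain ⟨P⟩ := hd g hg
  obtain ⟨n, ξ, t, rfl⟩ := exists_sum ((ModSite.sheafHom F).obj G) H z
  let ξ' : Fin n → HomS F G V := fun k => rs _ g (ξ k)
  let t' : Fin n → ModSite.sect H V := fun k => rs H g (t k)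
  have hrw : resT _ H g (∑ k, ξ k ⊗ₜ[O.obj.obj (op U)] t k) = ∑ k, ξ' k ⊗ₜ[O.obj.obj (op V)] t' k := by
    rw [map_sum]
    exact Finset.sum_congr rfl fun k _ => resT_tmul _ _ _ _ _
  have h0 : ∀ i, unitA G H V (∑ k, evL F (ξ' k) (P.s i) ⊗ₜ[O.obj.obj (op V)] t' k) = 0 := fun i => by
    rw [← evL_thetaA_sum, ← hrw, ← thetaA_res, hz, map_zero]
    exact evL_zero F _
  obtain ⟨T, hT, hTd⟩ := exists_unitA_zeros G H _ h0
  refine exists_sieve_bind _ hT fun W h hh => ?_
  let y : ULift.{u} (Fin n) → (ULift.{u} (Fin P.n) → ModSite.sect G W) := fun k i =>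
    rs G h (evL F (ξ' k.down) (P.s i.down))
  have hy : ∑ k, y k ⊗ₜ[O.obj.obj (op W)] rs H h (t' k.down) = 0 := by
    refine pi_tmul_eq_zero (fun i k => y k i) _ fun i => ?_
    refine Eq.trans ?_ (hTd h hh i.down)
    rw [map_sum]
    refine (Equiv.ulift.sum_comp (fun k => rs G h (evL F (ξ' k) (P.s i.down)) ⊗ₜ[O.obj.obj (op W)] rs H h (t' k))).trans ?_
    exact Finset.sum_congr rfl fun k _ => (resT_tmul G H _ _ _).symm
  obtain ⟨R, hR, hRd⟩ := exists_trivial hH y _ hy
  refine ⟨R, hR, fun W' r hr => ?_⟩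
  obtain ⟨l, w, c, hc1, hc2⟩ := hRd r hr
  have hzero : ∀ e, ∑ k : ULift.{u} (Fin n), c k e • rs ((ModSite.sheafHom F).obj G) (r ≫ h) (ξ' k.down) = 0 := fun e => by
    refine (P.res (r ≫ h)).hom_ext _ _ fun i => ?_
    rw [evL_zero, map_sum, LinearMap.sum_apply]
    refine Eq.trans (Finset.sum_congr rfl fun k _ => ?_)
      (hc2 _ ((rs G r).comp (Pi.evalAddMonoidHom _ (ULift.up i))) (fun a x => rs_smul G r a (x (ULift.up i))) e)
    rw [map_smul, LinearMap.smul_apply]
    refine congrArg (c k e • ·) ?_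
    exact ((rs_rs G h r _).trans (evL_res F (r ≫ h) (ξ' k.down) (P.s i))).symm
  have eq : resT ((ModSite.sheafHom F).obj G) H ((r ≫ h) ≫ g) (∑ k, ξ k ⊗ₜ[O.obj.obj (op U)] t k) =
      ∑ k : ULift.{u} (Fin n),
        rs ((ModSite.sheafHom F).obj G) (r ≫ h) (ξ' k.down) ⊗ₜ[O.obj.obj (op W')] ∑ e, c k e • w e := by
    rw [map_sum, ← Equiv.ulift.sum_comp]
    refine Finset.sum_congr rfl fun k _ => ?_
    rw [← hc1 k, resT_tmul]
    simp only [ξ', t', rs_rs, Category.assoc]
    rfl
  show resT _ H ((r ≫ h) ≫ g) _ = 0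
  rw [eq, tmul_swap]
  exact Finset.sum_eq_zero fun e _ => by rw [hzero e, TensorProduct.zero_tmul]

theorem thetaA_locally_surjective {U : C} (φ : HomS F (ten G H) U) :
    ∃ S ∈ J U, ∀ ⦃V : C⦄ (g : V ⟶ U), S g → ∃ z, thetaA F G H V z = rs _ g φ := by
  classical
  obtain ⟨S, hS, hd⟩ := exists_cover F U
  refine exists_sieve_bind _ hS fun V g hg => ?_
  obtain ⟨P⟩ := hd g hg
  obtain ⟨T, hT, hTd⟩ := exists_unitA_lifts G H (fun i => evL F (rs ((ModSite.sheafHom F).obj (ten G H)) g φ) (P.s i))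
  refine exists_sieve_bind _ hT fun W h hh => ?_
  obtain ⟨z, hz⟩ := hTd h hh
  choose N X Y hXY using fun i => exists_sum G H (z i)
  let K := ULift.{u} (Σ i : Fin P.n, Fin (N i))
  let hk : K → ModSite.sect H W := fun m => Y m.down.1 m.down.2
  let gk : Fin P.n → K → ModSite.sect G W := fun i m => if m.down.1 = i then X m.down.1 m.down.2 else 0
  have hzk : ∀ i, z i = ∑ m, gk i m ⊗ₜ[O.obj.obj (op W)] hk m := fun i => by
    refine (hXY i).trans ?_
    rw [← Equiv.ulift.symm.sum_comp, Fintype.sum_sigma, Finset.sum_eq_single i]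
    · exact Finset.sum_congr rfl fun k _ => by simp [gk, hk]
    · intro j _ hj
      exact Finset.sum_eq_zero fun k _ => by simp [gk, hj]
    · exact fun h => absurd (Finset.mem_univ i) h
  have hrel : ∀ l, unitA G H W (∑ i, (P.res h).a l i • z i) = 0 := fun l => by
    rw [map_sum]
    refine Eq.trans (Finset.sum_congr rfl fun i _ => ?_) (sum_rel F (P.res h) (rs _ (h ≫ g) φ) l)
    rw [unitA_smul, hz i]
    exact congrArg (_ • ·) (evL_move F φ g h (P.s i))
  obtain ⟨R, hR, hRd⟩ := exists_unitA_zeros G H _ hrel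
  refine exists_sieve_bind _ hR fun W₁ q hq => ?_
  let P₁ := (P.res h).res q
  let g₁ : Fin P.n → K → ModSite.sect G W₁ := fun i m => rs G q (gk i m)
  have h1 : ∑ m, (fun l : ULift.{u} (Fin P.p) => ∑ i, P₁.a l.down i • g₁ i m) ⊗ₜ[O.obj.obj (op W₁)] rs H q (hk m) = 0 := by
    refine pi_tmul_eq_zero (fun (l : ULift.{u} (Fin P.p)) m => ∑ i, P₁.a l.down i • g₁ i m) _ fun l => ?_
    refine Eq.trans ?_ (hRd q hq l.down)
    rw [map_sum]
    simp only [TensorProduct.sum_tmul, hzk]
    rw [Finset.sum_comm]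
    refine Finset.sum_congr rfl fun i _ => ?_
    rw [Finset.smul_sum, map_sum]
    refine Finset.sum_congr rfl fun m _ => ?_
    exact ((congrArg (fun u => u ⊗ₜ[O.obj.obj (op W₁)] rs H q (hk m)) (rs_smul G q _ (gk i m)).symm).trans
      (resT_tmul G H q _ _).symm).trans (congrArg (resT G H q) (TensorProduct.smul_tmul' _ _ _).symm)
  obtain ⟨R', hR', hR'd⟩ := exists_trivial hH _ _ h1
  refine ⟨R', hR', fun W₂ r hr => ?_⟩
  obtain ⟨n', w, c, hc1, hc2⟩ := hR'd r hr
  let P₂ := P₁.res r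
  let x : Fin n' → Fin P.n → ModSite.sect G W₂ := fun e i => ∑ m, c m e • rs G r (g₁ i m)
  have hx : ∀ e l, ∑ i, P₂.a l i • x e i = 0 := fun e l => by
    refine Eq.trans ?_ (hc2 _ ((rs G r).comp (Pi.evalAddMonoidHom _ (ULift.up l)))
      (fun a v => rs_smul G r a (v (ULift.up l))) e)
    simp only [x, Finset.smul_sum]
    rw [Finset.sum_comm]
    refine Finset.sum_congr rfl fun m _ => ?_
    show _ = c m e • rs G r (∑ i, P₁.a l i • g₁ i m)
    rw [map_sum, Finset.smul_sum]
    refine Finset.sum_congr rfl fun i _ => ?_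
    rw [rs_smul, smul_comm]
    rfl
  choose ξ hξ using fun e => P₂.exists_desc (B := G) (x e) (hx e)
  refine ⟨∑ e, ξ e ⊗ₜ[O.obj.obj (op W₂)] w e, P₂.hom_ext _ _ fun i => ?_⟩
  have e1 : ∑ e, evL F (ξ e) (P₂.s i) ⊗ₜ[O.obj.obj (op W₂)] w e = resT G H (r ≫ q) (z i) := by
    rw [Finset.sum_congr rfl fun e _ => by rw [hξ e i], hzk, map_sum]
    refine Eq.trans (tmul_swap _ c w).symm (Finset.sum_congr rfl fun m _ => ?_)
    rw [← hc1 m, resT_tmul]
    simp only [g₁, rs_rs]
  rw [evL_thetaA_sum, e1, ← unitA_res, hz i]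
  simp only [Category.assoc]
  rw [rs_rs, evL_move]
  simp only [P₂, P₁, LPres.res, rs_rs, Category.assoc]

/-- The comparison map is an isomorphism. -/
theorem nonempty_iso : Nonempty (ten ((ModSite.sheafHom F).obj G) H ≅ (ModSite.sheafHom F).obj (ten G H)) := by
  have : IsIso ((shf O).map (thetaP F G H)) := by
    refine isIso_shf_map _ ((J.W_iff_isLocallyBijective _).2 ⟨⟨fun {V} x y hxy => ?_⟩, ⟨fun {V} t => ?_⟩⟩)
    · have h0 : thetaA F G H V.unop ((x : TP ((ModSite.sheafHom F).obj G) H V.unop) - y) = 0 :=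
        (map_sub (thetaA F G H V.unop) _ _).trans (sub_eq_zero.2 hxy)
      obtain ⟨S, hS, hd⟩ := thetaA_locally_injective hH _ h0
      exact J.superset_covering (fun W g hg => sub_eq_zero.1 ((map_sub _ _ _).symm.trans (hd g hg))) hS
    · obtain ⟨S, hS, hd⟩ := thetaA_locally_surjective hH (F := F) (G := G) t
      exact J.superset_covering (fun W g hg => hd g hg) hS
  have h' : IsIso (((shfAdj O).homEquiv _ _).symm (thetaP F G H)) := by
    rw [Adjunction.homEquiv_counit]
    infer_instance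
  exact ⟨@asIso _ _ _ _ _ h'⟩

end Groth.L15.LocPres
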