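import Groth.Agent.L15.FlatCrit.Factor
import Groth.Agent.L15.PullFlat.Diagram

/-! Local generators and relations of finitely presented modules, in terms of sections. -/

set_option autoImplicit false

universe u

open CategoryTheory CategoryTheory.Limits Opposite

noncomputable section

namespace Groth.L15.LocPres

open Groth.L15.FlatCrit Groth.L15.PullFlat

variable {C : Type u} [SmallCategory C] {J : GrothendieckTopology C} {O : Sheaf J CommRingCat.{u}}

/-- Compatible sections on a covering sieve glue. -/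
theorem sect_glue (M : ModSite.Mod O) {U : C} (S : Sieve U) (hS : S ∈ J U)
    (x : ∀ ⦃V : C⦄ (h : V ⟶ U), S h → ModSite.sect M V)
    (hx : ∀ ⦃V W : C⦄ (h : V ⟶ U) (hh : S h) (k : W ⟶ V), rs M k (x h hh) = x (k ≫ h) (S.downward_closed hh k)) :
    ∃ y : ModSite.sect M U, ∀ ⦃V : C⦄ (h : V ⟶ U) (hh : S h), rs M h y = x h hh := by
  have hF := ((Presheaf.isSheaf_iff_isSheaf_forget J _ (forget AddCommGrpCat.{u})).1 M.isSheaf)
  have hS' := (isSheaf_iff_isSheaf_of_type _ _).1 hF S hS
  let fam : Presieve.FamilyOfElements (M.val.presheaf ⋙ forget AddCommGrpCat.{u}) S.arrows := fun V h hh => x h hh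
  have hc : fam.Compatible := by
    rw [Presieve.compatible_iff_sieveCompatible]
    intro V W h k hh
    exact (hx h hh k).symm
  exact ⟨hS'.amalgamate fam hc, fun V h hh => hS'.valid_glue hc h hh⟩

section Free

variable (O)

/-- A basic section of a free module. -/
abbrev bas {I : Type u} (k : I) (T : C) : ModSite.sect (SheafOfModules.free I : ModSite.Mod O) T :=
  (SheafOfModules.ιFree k : ModSite.unit O ⟶ SheafOfModules.free I).val.app (op T) (one' O T)

/-- The coordinates of a finite free module. -/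
theorem exists_coord (I : Type u) [Fintype I] [DecidableEq I] :
    ∃ π : I → ((SheafOfModules.free I : ModSite.Mod O) ⟶ ModSite.unit O),
      (∀ j k, (SheafOfModules.ιFree j : ModSite.unit O ⟶ SheafOfModules.free I) ≫ π k =
        if j = k then 𝟙 _ else 0) ∧
      ∑ k, π k ≫ SheafOfModules.ιFree k = 𝟙 (SheafOfModules.free I) := by
  let π : I → ((SheafOfModules.free I : ModSite.Mod O) ⟶ ModSite.unit O) := fun k =>
    Cofan.IsColimit.desc (SheafOfModules.isColimitFreeCofan _) (fun j => if j = k then 𝟙 _ else 0)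
  let ι : I → (ModSite.unit O ⟶ (SheafOfModules.free I : ModSite.Mod O)) := fun j => SheafOfModules.ιFree j
  have hfac : ∀ j k, ι j ≫ π k = if j = k then 𝟙 _ else 0 := fun j k =>
    Cofan.IsColimit.fac (SheafOfModules.isColimitFreeCofan _) _ j
  refine ⟨π, hfac, Cofan.IsColimit.hom_ext (SheafOfModules.isColimitFreeCofan _) _ _ fun j => ?_⟩
  show ι j ≫ (∑ k, π k ≫ ι k) = ι j ≫ 𝟙 _
  rw [Category.comp_id, Preadditive.comp_sum, Finset.sum_eq_single j]
  · rw [← Category.assoc, hfac, if_pos rfl, Category.id_comp]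
  · intro k _ hk
    rw [← Category.assoc, hfac, if_neg (Ne.symm hk), zero_comp]
  · exact fun h => absurd (Finset.mem_univ j) h

variable {O}

theorem unit_app_eq {M : ModSite.Mod O} (f : ModSite.unit O ⟶ M) (T : C) (r : ModSite.sect (ModSite.unit O) T) :
    f.val.app (op T) r = sc r • f.val.app (op T) (one' O T) :=
  (congrArg (f.val.app (op T)) (mul_one (sc r)).symm).trans (map_smul (f.val.app (op T)).hom (sc r) (one' O T))

theorem app_eq_sum {I : Type u} [Fintype I] (π : I → ((SheafOfModules.free I : ModSite.Mod O) ⟶ ModSite.unit O))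
    (hπ : ∑ k, π k ≫ SheafOfModules.ιFree k = 𝟙 (SheafOfModules.free I)) {M : ModSite.Mod O}
    (ψ : SheafOfModules.free I ⟶ M) (T : C) (x : ModSite.sect (SheafOfModules.free I : ModSite.Mod O) T) :
    ψ.val.app (op T) x = ∑ k, sc ((π k).val.app (op T) x) • ψ.val.app (op T) (bas O k T) := by
  let evx : ((SheafOfModules.free I : ModSite.Mod O) ⟶ M) →+ ModSite.sect M T :=
    AddMonoidHom.mk' (fun f => f.val.app (op T) x) fun _ _ => rfl
  have e : ∑ k, π k ≫ SheafOfModules.ιFree k ≫ ψ = ψ := by
    simp only [← Category.assoc, ← Preadditive.sum_comp, hπ, Category.id_comp]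
  refine ((congrArg evx e).symm.trans (map_sum evx _ _)).trans (Finset.sum_congr rfl fun k _ => ?_)
  exact unit_app_eq (SheafOfModules.ιFree k ≫ ψ) T ((π k).val.app (op T) x)

theorem bas_res {I : Type u} (k : I) {T T' : C} (r : T' ⟶ T) :
    rs (SheafOfModules.free I : ModSite.Mod O) r (bas O k T) = bas O k T' :=
  (Groth.L15.ExtSupp.res_natural (SheafOfModules.ιFree k : ModSite.unit O ⟶ SheafOfModules.free I) r (one' O T)).trans
    (congrArg ((SheafOfModules.ιFree k : ModSite.unit O ⟶ SheafOfModules.free I).val.app (op T')) (map_one (rr O r)))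

theorem coord_bas {I : Type u} [DecidableEq I] (π : I → ((SheafOfModules.free I : ModSite.Mod O) ⟶ ModSite.unit O))
    (h : ∀ j k, (SheafOfModules.ιFree j : ModSite.unit O ⟶ SheafOfModules.free I) ≫ π k = if j = k then 𝟙 _ else 0)
    (j k : I) (T : C) : sc ((π k).val.app (op T) (bas O j T)) = if j = k then 1 else 0 := by
  refine (congr(($(h j k)).val.app (op T) (one' O T))).trans ?_
  by_cases e : j = k
  · rw [if_pos e, if_pos e]
    rfl
  · rw [if_neg e, if_neg e]
    rfl

/-- Sections lift to kernels. -/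
theorem exists_kernel_sect {A B : ModSite.Mod O} (g : A ⟶ B) {T : C} (x : ModSite.sect A T)
    (hx : g.val.app (op T) x = 0) : ∃ y : ModSite.sect (kernel g) T, (kernel.ι g).val.app (op T) y = x := by
  let e := fun M : ModSite.Mod O => Groth.L15.ModTensor.freeSecAdd O T M
  have h0 : (e A).symm x ≫ g = 0 := by
    apply (e B).injective
    refine ((Groth.L10.FreeOn.sec_comp O T ((e A).symm x) g).trans ?_).trans (map_zero (e B)).symm
    show g.val.app (op T) (e A ((e A).symm x)) = 0
    rw [AddEquiv.apply_symm_apply]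
    exact hx
  refine ⟨e _ (kernel.lift g _ h0), ?_⟩
  exact ((Groth.L10.FreeOn.sec_comp O T (kernel.lift g _ h0) (kernel.ι g)).symm.trans
    (congrArg (e A) (kernel.lift_ι g _ h0))).trans ((e A).apply_symm_apply x)

end Free

/-- Finitely many generators and relations of a module over an object, in terms of sections. -/
structure LPres (F : ModSite.Mod O) (W : C) where
  /-- number of generators -/
  n : ℕ
  /-- number of relations -/
  p : ℕ
  /-- generators -/
  s : Fin n → ModSite.sect F W
  /-- relations -/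
  a : Fin p → Fin n → O.obj.obj (op W)
  gen : ∀ ⦃U : C⦄ (g : U ⟶ W) (e : ModSite.sect F U), ∃ S ∈ J U, ∀ ⦃V : C⦄ (h : V ⟶ U), S h →
    ∃ c : Fin n → O.obj.obj (op V), rs F h e = ∑ i, c i • rs F (h ≫ g) (s i)
  rel : ∀ j, ∑ i, a j i • s i = 0
  ker : ∀ ⦃U : C⦄ (g : U ⟶ W) (c : Fin n → O.obj.obj (op U)), ∑ i, c i • rs F g (s i) = 0 →
    ∃ S ∈ J U, ∀ ⦃V : C⦄ (h : V ⟶ U), S h →
      ∃ d : Fin p → O.obj.obj (op V), ∀ i, rr O h (c i) = ∑ j, d j * rr O (h ≫ g) (a j i)

/-- Restriction of generators and relations. -/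
def LPres.res {F : ModSite.Mod O} {W : C} (P : LPres F W) {W' : C} (v : W' ⟶ W) : LPres F W' where
  n := P.n
  p := P.p
  s i := rs F v (P.s i)
  a j i := rr O v (P.a j i)
  gen U g e := by
    obtain ⟨S, hS, hd⟩ := P.gen (g ≫ v) e
    refine ⟨S, hS, fun V h hh => ?_⟩
    obtain ⟨c, hc⟩ := hd h hh
    refine ⟨c, hc.trans ?_⟩
    simp only [rs_rs, Category.assoc]
  rel j := by
    have h := congrArg (rs F v) (P.rel j)
    rw [map_sum, map_zero] at h
    exact Eq.trans (Finset.sum_congr rfl fun i _ => (rs_smul F v _ _).symm) h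
  ker U g c hc := by
    simp only [rs_rs] at hc
    obtain ⟨S, hS, hd⟩ := P.ker (g ≫ v) c hc
    refine ⟨S, hS, fun V h hh => ?_⟩
    obtain ⟨d, hd'⟩ := hd h hh
    refine ⟨d, fun i => (hd' i).trans ?_⟩
    simp only [rr_rr, Category.assoc]

section Pres

variable {F : ModSite.Mod O} {Z : C}

theorem exists_slice_lift {A B : ModSite.Mod (O.over Z)} (p : A ⟶ B) [Epi p] {U : C} (t : U ⟶ Z)
    (b : ModSite.sect B (Over.mk t)) :
    ∃ S ∈ J U, ∀ ⦃V : C⦄ (h : V ⟶ U), S h → ∃ a : ModSite.sect A (Over.mk (h ≫ t)),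
      p.val.app (op (Over.mk (h ≫ t))) a = rs B (Over.homMk h : Over.mk (h ≫ t) ⟶ Over.mk t) b := by
  haveI hp : Sheaf.IsLocallySurjective ((SheafOfModules.toSheaf.{u} _).map p) :=
    (Sheaf.isLocallySurjective_iff_epi' _ _).2 inferInstance
  have h := Presheaf.imageSieve_mem (J.over Z) ((SheafOfModules.toSheaf _).map p).hom
    (U := op (Over.mk t)) b
  rw [J.mem_over_iff] at h
  refine ⟨_, h, fun V g hg => ?_⟩
  rw [Sieve.overEquiv_iff] at hg
  obtain ⟨a, ha⟩ := hg
  exact ⟨a, ha⟩

/-- A finite presentation on a slice gives generators and relations on every object over it. -/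
theorem nonempty_lpres_of_presentation (P : SheafOfModules.Presentation (F.over Z)) [P.IsFinite] {W : C}
    (v : W ⟶ Z) : Nonempty (LPres F W) := by
  classical
  haveI : Fintype P.generators.I := Fintype.ofFinite _
  haveI : Fintype P.relations.I := Fintype.ofFinite _
  let Fi : ModSite.Mod (O.over Z) := (ModSite.restr O Z).obj F
  let FG : ModSite.Mod (O.over Z) := SheafOfModules.free P.generators.I
  let FR : ModSite.Mod (O.over Z) := SheafOfModules.free P.relations.I
  let g : FG ⟶ Fi := P.generators.π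
  let q : FR ⟶ kernel g := P.relations.π
  haveI : Epi g := inferInstanceAs (Epi P.generators.π)
  haveI : Epi q := inferInstanceAs (Epi P.relations.π)
  obtain ⟨π, hπ₁, hπ₂⟩ := exists_coord (O.over Z) P.generators.I
  obtain ⟨π', -, hπ'₂⟩ := exists_coord (O.over Z) P.relations.I
  let T₀ : Over Z := Over.mk v
  let q' : FR ⟶ FG := q ≫ kernel.ι g
  let eG := Fintype.equivFin P.generators.I
  let eR := Fintype.equivFin P.relations.I
  let s₀ : P.generators.I → ModSite.sect F W := fun k => g.val.app (op T₀) (bas (O.over Z) k T₀)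
  let a₀ : P.relations.I → P.generators.I → O.obj.obj (op W) := fun r k =>
    sc ((π k).val.app (op T₀) (q'.val.app (op T₀) (bas (O.over Z) r T₀)))
  have hs₀ : ∀ ⦃U : C⦄ (w : U ⟶ W) (t : U ⟶ Z) (ht : t = w ≫ v) (k : P.generators.I),
      g.val.app (op (Over.mk t)) (bas (O.over Z) k (Over.mk t)) = rs F w (s₀ k) := by
    intro U w t ht k
    let r : Over.mk t ⟶ T₀ := Over.homMk w ht.symm
    exact ((Groth.L15.ExtSupp.res_natural g r (bas (O.over Z) k T₀)).trans
      (congrArg (g.val.app (op (Over.mk t))) (bas_res k r))).symm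
  have ha₀ : ∀ ⦃U : C⦄ (w : U ⟶ W) (t : U ⟶ Z) (ht : t = w ≫ v) (r : P.relations.I) (k : P.generators.I),
      sc ((π k).val.app (op (Over.mk t)) (q'.val.app (op (Over.mk t)) (bas (O.over Z) r (Over.mk t)))) =
        rr O w (a₀ r k) := by
    intro U w t ht j k
    let r : Over.mk t ⟶ T₀ := Over.homMk w ht.symm
    refine ((Groth.L15.ExtSupp.res_natural (π k) r _).trans (congrArg ((π k).val.app (op (Over.mk t))) ?_)).symm
    exact (Groth.L15.ExtSupp.res_natural q' r (bas (O.over Z) j T₀)).trans
      (congrArg (q'.val.app (op (Over.mk t))) (bas_res j r))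
  refine ⟨{ n := _, p := _, s := fun i => s₀ (eG.symm i), a := fun j i => a₀ (eR.symm j) (eG.symm i),
            gen := ?_, rel := ?_, ker := ?_ }⟩
  · intro U w e
    obtain ⟨S, hS, hd⟩ := exists_slice_lift g (w ≫ v) e
    refine ⟨S, hS, fun V h hh => ?_⟩
    obtain ⟨x, hx⟩ := hd h hh
    let T : Over Z := Over.mk (h ≫ w ≫ v)
    refine ⟨fun i => sc ((π (eG.symm i)).val.app (op T) x), hx.symm.trans ((app_eq_sum π hπ₂ g T x).trans ?_)⟩
    refine Eq.trans ?_ (eG.symm.sum_comp (fun k =>
      (sc ((π k).val.app (op T) x) : O.obj.obj (op V)) • rs F (h ≫ w) (s₀ k))).symm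
    exact Finset.sum_congr rfl fun k _ => congrArg (sc ((π k).val.app (op T) x) • ·)
      (hs₀ (h ≫ w) _ (Category.assoc _ _ _).symm k)
  · intro j
    let x := q'.val.app (op T₀) (bas (O.over Z) (eR.symm j) T₀)
    refine Eq.trans (eG.symm.sum_comp fun k => a₀ (eR.symm j) k • s₀ k) ?_
    refine Eq.trans (app_eq_sum π hπ₂ g T₀ x).symm ?_
    have h0 : q' ≫ g = 0 := by simp [q']
    exact congr(($h0).val.app (op T₀) (bas (O.over Z) (eR.symm j) T₀))
  · intro U w c hc
    let T : Over Z := Over.mk (w ≫ v)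
    let x : ModSite.sect FG T := ∑ k, (c (eG k) : (O.over Z).obj.obj (op T)) • bas (O.over Z) k T
    have hx : g.val.app (op T) x = 0 := by
      refine (map_sum (g.val.app (op T)).hom _ _).trans (Eq.trans ?_ hc)
      refine Eq.trans (Finset.sum_congr rfl fun k _ => ?_)
        (eG.sum_comp fun i => c i • rs F w (s₀ (eG.symm i)))
      refine (map_smul (g.val.app (op T)).hom (c (eG k) : (O.over Z).obj.obj (op T)) _).trans ?_
      rw [eG.symm_apply_apply]
      exact congrArg (c (eG k) • ·) (hs₀ w _ rfl k)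
    obtain ⟨y, hy⟩ := exists_kernel_sect g x hx
    obtain ⟨S, hS, hd⟩ := exists_slice_lift q (w ≫ v) y
    refine ⟨S, hS, fun V h hh => ?_⟩
    obtain ⟨z, hz⟩ := hd h hh
    let T' : Over Z := Over.mk (h ≫ w ≫ v)
    let r : T' ⟶ T := Over.homMk h
    refine ⟨fun j => sc ((π' (eR.symm j)).val.app (op T') z), fun i => ?_⟩
    have e1 : rs FG r x = q'.val.app (op T') z := by
      rw [← hy]
      exact (Groth.L15.ExtSupp.res_natural (kernel.ι g) r y).trans (congrArg ((kernel.ι g).val.app (op T')) hz.symm)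
    have e2 : sc ((π (eG.symm i)).val.app (op T) x) = c i := by
      refine ((congrArg (fun u => sc u) ((map_sum ((π (eG.symm i)).val.app (op T)).hom _ _))).trans ?_)
      show (∑ k, (π (eG.symm i)).val.app (op T) ((c (eG k) : (O.over Z).obj.obj (op T)) • bas (O.over Z) k T) :
        (O.over Z).obj.obj (op T)) = c i
      rw [Finset.sum_eq_single (eG.symm i)]
      · refine (map_smul ((π (eG.symm i)).val.app (op T)).hom _ _).trans ?_
        refine (congrArg (fun u : O.obj.obj (op U) => c (eG (eG.symm i)) * u)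
          ((coord_bas π hπ₁ (eG.symm i) (eG.symm i) T).trans (if_pos rfl))).trans ?_
        rw [eG.apply_symm_apply]
        exact mul_one _
      · intro k _ hk
        refine (map_smul ((π (eG.symm i)).val.app (op T)).hom _ _).trans ?_
        exact (congrArg (fun u : O.obj.obj (op U) => c (eG k) * u)
          ((coord_bas π hπ₁ k (eG.symm i) T).trans (if_neg hk))).trans (mul_zero _)
      · exact fun hk => absurd (Finset.mem_univ _) hk
    rw [← e2]
    refine (Groth.L15.ExtSupp.res_natural (π (eG.symm i)) r x).trans ?_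
    refine (congrArg ((π (eG.symm i)).val.app (op T')) e1).trans ?_
    refine (app_eq_sum π' hπ'₂ (q' ≫ π (eG.symm i)) T' z).trans ?_
    refine Eq.trans ?_ (eR.symm.sum_comp (fun k =>
      (sc ((π' k).val.app (op T') z) : O.obj.obj (op V)) * rr O (h ≫ w) (a₀ k (eG.symm i)))).symm
    exact Finset.sum_congr rfl fun k _ => congrArg (sc ((π' k).val.app (op T') z) * ·)
      (ha₀ (h ≫ w) _ (Category.assoc _ _ _).symm k (eG.symm i))

end Pres

/-- A finitely presented module has generators and relations locally. -/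
theorem exists_cover (F : ModSite.Mod O) [SheafOfModules.IsFinitePresentation (R := ModSite.ringSh O) F] (V : C) :
    ∃ S ∈ J V, ∀ ⦃W : C⦄ (g : W ⟶ V), S g → Nonempty (LPres F W) := by
  obtain ⟨σ, hσ⟩ := SheafOfModules.IsFinitePresentation.exists_quasicoherentData F
  refine ⟨_, σ.coversTop V, fun W g hg => ?_⟩
  obtain ⟨i, ⟨v⟩⟩ := (Sieve.mem_ofObjects_iff ..).mp hg
  exact nonempty_lpres_of_presentation (σ.presentation i) v

end Groth.L15.LocPres
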