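import Groth.Agent.L15.LocPres.Basic
import Groth.Agent.L17.LocBases
import Mathlib.LinearAlgebra.Finsupp.LinearCombination

/-! Sections of the internal hom as compatible families of linear maps, and out of finitely presented modules. -/

set_option autoImplicit false
set_option backward.isDefEq.respectTransparency false

universe u

open CategoryTheory CategoryTheory.Limits MonoidalCategory Opposite TensorProduct

noncomputable section

namespace Groth.L15.LocPres

open Groth.L00.ModSiteTensor Groth.L15.FlatCrit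
open Groth.L17.LocBases (ψ ψ_app yfree wOf gen wOf_gen res_gen Rg Sec)

variable {C : Type u} [SmallCategory C] {J : GrothendieckTopology C} {O : Sheaf J CommRingCat.{u}}
  (F : ModSite.Mod O) [ModSite.HasSheafHom F] {B B' : ModSite.Mod O}

/-- Sections of the internal hom. -/
abbrev HomS (B : ModSite.Mod O) (W : C) : Type u := ModSite.sect ((ModSite.sheafHom F).obj B) W

/-- Evaluation of a section of the internal hom, bilinearly. -/
def evL {W : C} : HomS F B W →ₗ[O.obj.obj (op W)] ModSite.sect F W →ₗ[O.obj.obj (op W)] ModSite.sect B W :=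
  LinearMap.mk₂ (O.obj.obj (op W))
    (fun (φ : HomS F B W) (e : ModSite.sect F W) => (Groth.L17.LocBases.ev F φ e : ModSite.sect B W))
    (fun φ φ' e => Groth.L17.LocBases.ev_add_left F φ φ' e)
    (fun r φ e => Groth.L17.LocBases.ev_smul_left F r φ e)
    (fun φ e e' => (congrArg (fun t => (Groth.L17.LocBases.evp F B).app (op W) t)
      (TensorProduct.tmul_add φ e e')).trans (map_add _ _ _))
    (fun r φ e => Groth.L17.LocBases.ev_smul_right F r φ e)

theorem evL_res {W' W : C} (g : W' ⟶ W) (φ : HomS F B W) (e : ModSite.sect F W) :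
    rs B g (evL F φ e) = evL F (rs _ g φ) (rs F g e) :=
  Groth.L17.LocBases.ev_res F g φ e

theorem evL_map (b : B ⟶ B') {W : C} (φ : HomS F B W) (e : ModSite.sect F W) :
    evL F (((ModSite.sheafHom F).map b).val.app (op W) φ) e = b.val.app (op W) (evL F φ e) :=
  Groth.L17.LocBases.ev_map F b φ e

variable {F}

theorem single_eq {W U : C} (g : U ⟶ W) (r : Rg O U) :
    (Finsupp.single g r : Sec (yfree O W) U) = r • gen g :=
  ((Finsupp.smul_single' r g (1 : Rg O U)).trans (by rw [mul_one])).symm

theorem res_eq_app {W U : C} (w : yfree O W ⟶ (preF O).obj ((ModSite.sheafHom F).obj B)) (g : U ⟶ W) :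
    rs ((ModSite.sheafHom F).obj B) g (w.app (op W) (gen (𝟙 W))) = w.app (op U) (gen g) := by
  refine (PresheafOfModules.naturality_apply w g.op (gen (𝟙 W))).symm.trans ?_
  refine congrArg (w.app (op U)) ?_
  exact (res_gen g (𝟙 W)).trans (by rw [Category.comp_id])

/-- A section of the internal hom is determined by the linear maps it induces. -/
theorem hom_ext_ev {W : C} (φ φ' : HomS F B W)
    (h : ∀ ⦃U : C⦄ (g : U ⟶ W) (e : ModSite.sect F U), evL F (rs _ g φ) e = evL F (rs _ g φ') e) : φ = φ' := by
  have key : wOf (P := (preF O).obj ((ModSite.sheafHom F).obj B)) φ =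
      wOf (P := (preF O).obj ((ModSite.sheafHom F).obj B)) φ' := by
    apply (ψ F B (yfree O W)).injective
    refine PresheafOfModules.hom_ext fun V => ModuleCat.MonoidalCategory.tensor_ext fun x e => ?_
    refine (ψ_app F (wOf φ) (W := V.unop) x e).trans (Eq.trans ?_ (ψ_app F (wOf φ') (W := V.unop) x e).symm)
    induction x using Finsupp.induction_linear with
    | zero => exact congrArg (fun t => Groth.L17.LocBases.ev F t e) ((map_zero _).trans (map_zero _).symm)
    | add x y hx hy =>
      exact ((congrArg (fun t => Groth.L17.LocBases.ev F t e) (map_add _ x y)).trans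
        ((Groth.L17.LocBases.ev_add_left F _ _ e).trans ((congrArg₂ (· + ·) hx hy).trans
          (Groth.L17.LocBases.ev_add_left F _ _ e).symm))).trans
        (congrArg (fun t => Groth.L17.LocBases.ev F t e) (map_add _ x y)).symm
    | single g r =>
      have k : ∀ θ : HomS F B W,
          Groth.L17.LocBases.ev F ((wOf θ).app (op V.unop) (Finsupp.single g r : Sec (yfree O W) V.unop)) e =
            r • evL F (rs _ g θ) e := fun θ => by
        refine (congrArg (fun t => Groth.L17.LocBases.ev F t e) ((congrArg ((wOf θ).app (op V.unop)) (single_eq g r)).trans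
          ((Groth.L17.LocBases.app_smul (wOf θ) V.unop r (gen g)).trans (congrArg (r • ·) (wOf_gen θ g))))).trans ?_
        exact Groth.L17.LocBases.ev_smul_left F r _ _
      exact ((k φ).trans (congrArg (r • ·) (h g e))).trans (k φ').symm
  have := congrArg (fun a : yfree O W ⟶ _ => a.app (op W) (gen (𝟙 W))) key
  simp only [wOf_gen, Groth.L17.LocBases.res_id] at this
  exact this

omit [ModSite.HasSheafHom F] in
/-- The bilinear map attached to a family of linear maps. -/
def famBil {W : C} (D : ∀ ⦃U : C⦄, (U ⟶ W) → (ModSite.sect F U →ₗ[O.obj.obj (op U)] ModSite.sect B U)) (U : C) :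
    ((U ⟶ W) →₀ Rg O U) →ₗ[Rg O U] Sec ((preF O).obj F) U →ₗ[Rg O U] Sec ((preF O).obj B) U :=
  Finsupp.linearCombination (Rg O U) fun g => (D g : Sec ((preF O).obj F) U →ₗ[Rg O U] Sec ((preF O).obj B) U)

omit [ModSite.HasSheafHom F] in
theorem famBil_single {W : C} (D : ∀ ⦃U : C⦄, (U ⟶ W) → (ModSite.sect F U →ₗ[O.obj.obj (op U)] ModSite.sect B U))
    {U : C} (g : U ⟶ W) (r : Rg O U) (e : ModSite.sect F U) :
    (famBil D U (Finsupp.single g r) e : ModSite.sect B U) = r • D g e := by
  rw [famBil, Finsupp.linearCombination_single]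
  rfl

/-- A compatible family of linear maps is a section of the internal hom. -/
theorem exists_of_family {W : C} (D : ∀ ⦃U : C⦄, (U ⟶ W) → (ModSite.sect F U →ₗ[O.obj.obj (op U)] ModSite.sect B U))
    (hD : ∀ ⦃U U' : C⦄ (h : U' ⟶ U) (g : U ⟶ W) (e : ModSite.sect F U), D (h ≫ g) (rs F h e) = rs B h (D g e)) :
    ∃ φ : HomS F B W, ∀ ⦃U : C⦄ (g : U ⟶ W) (e : ModSite.sect F U), evL F (rs _ g φ) e = D g e := by
  let L : ∀ U : C, Sec (yfree O W) U → Sec ((preF O).obj F) U → Sec ((preF O).obj B) U := fun U x e =>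
    famBil D U x e
  let pre : yfree O W ⊗ (preF O).obj F ⟶ (preF O).obj B :=
    { app := fun V => ModuleCat.ofHom (X := Sec (yfree O W ⊗ (preF O).obj F) V.unop) (Y := Sec ((preF O).obj B) V.unop)
        (TensorProduct.lift (famBil D V.unop))
      naturality := fun {V V'} h => ModuleCat.MonoidalCategory.tensor_ext fun x e => by
        suffices key : L V'.unop (Groth.L17.LocBases.res (yfree O W) h.unop x)
            (Groth.L17.LocBases.res ((preF O).obj F) h.unop e) =
            Groth.L17.LocBases.res ((preF O).obj B) h.unop (L V.unop x e) by exact key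
        induction x using Finsupp.induction_linear with
        | zero =>
          have h0 : ∀ U t, L U (0 : Sec (yfree O W) U) t = 0 := fun U t =>
            congrArg (fun f : Sec ((preF O).obj F) U →ₗ[Rg O U] Sec ((preF O).obj B) U => f t) (map_zero (famBil D U))
          exact (congrArg (fun y => L V'.unop y _) (map_zero _)).trans ((h0 _ _).trans
            ((map_zero ((PresheafOfModules.map ((preF O).obj B) h).hom)).symm.trans
              (congrArg (Groth.L17.LocBases.res ((preF O).obj B) h.unop) (h0 _ e).symm)))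
        | add x y hx hy =>
          have h1 : ∀ U (x y : Sec (yfree O W) U) t, L U (x + y) t = L U x t + L U y t := fun U x y t =>
            (congrArg (fun f : Sec ((preF O).obj F) U →ₗ[Rg O U] Sec ((preF O).obj B) U => f t)
              ((famBil D U).map_add x y)).trans rfl
          exact (congrArg (fun y => L V'.unop y _) (map_add _ x y)).trans ((h1 _ _ _ _).trans
            ((congrArg₂ (· + ·) hx hy).trans ((map_add ((PresheafOfModules.map ((preF O).obj B) h).hom) _ _).symm.trans
              (congrArg (Groth.L17.LocBases.res ((preF O).obj B) h.unop) (h1 _ x y e).symm))))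
        | single g r =>
          have hx : Groth.L17.LocBases.res (yfree O W) h.unop (Finsupp.single g r : Sec (yfree O W) V.unop) =
              (Finsupp.single (h.unop ≫ g) (rr O h.unop r) : Sec (yfree O W) V'.unop) := by
            refine (congrArg (Groth.L17.LocBases.res (yfree O W) h.unop) (single_eq g r)).trans
              ((Groth.L17.LocBases.res_smul _ _ _ _).trans ?_)
            exact (congrArg (rr O h.unop r • ·) (res_gen h.unop g)).trans (single_eq (h.unop ≫ g) (rr O h.unop r)).symm
          refine (congrArg (fun z => L V'.unop z _) hx).trans ((famBil_single D (h.unop ≫ g) _ _).trans ?_)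
          refine (congrArg (rr O h.unop r • ·) (hD h.unop g e)).trans ?_
          exact (rs_smul B h.unop r (D g e)).symm.trans (congrArg (rs B h.unop) (famBil_single D g r e).symm) }
  let w := (ψ F B (yfree O W)).symm pre
  refine ⟨w.app (op W) (gen (𝟙 W)), fun U g e => ?_⟩
  rw [res_eq_app]
  refine (ψ_app F w (gen g) e).symm.trans ?_
  refine (congrArg (fun k : yfree O W ⊗ (preF O).obj F ⟶ (preF O).obj B => k.app (op U) (Groth.L17.LocBases.tm (gen g) e))
    ((ψ F B (yfree O W)).apply_symm_apply _)).trans ?_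
  exact (famBil_single D g (1 : Rg O U) e).trans (one_smul _ _)

namespace LPres

open Groth.L15.PullFlat (exists_sieve_bind)

variable {W : C} (P : LPres F W)

/-- A section of the internal hom is determined on generators. -/
theorem hom_ext (φ φ' : HomS F B W) (h : ∀ i, evL F φ (P.s i) = evL F φ' (P.s i)) : φ = φ' := by
  refine hom_ext_ev φ φ' fun U g e => ?_
  obtain ⟨S, hS, hd⟩ := P.gen g e
  refine Groth.L15.ExtSupp.sect_ext B S hS _ _ fun V k hk => ?_
  obtain ⟨c, hc⟩ := hd k hk
  have key : ∀ θ : HomS F B W, rs B k (evL F (rs _ g θ) e) = ∑ i, c i • rs B (k ≫ g) (evL F θ (P.s i)) := fun θ => by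
    rw [evL_res, hc, map_sum, rs_rs]
    exact Finset.sum_congr rfl fun i _ => by rw [map_smul, evL_res]
  exact (key φ).trans ((Finset.sum_congr rfl fun i _ => by rw [h i]).trans (key φ').symm)

omit [ModSite.HasSheafHom F]

theorem comb_eq {x : Fin P.n → ModSite.sect B W} (hx : ∀ j, ∑ i, P.a j i • x i = 0) {V : C} (g : V ⟶ W)
    (c c' : Fin P.n → O.obj.obj (op V)) (h : ∑ i, c i • rs F g (P.s i) = ∑ i, c' i • rs F g (P.s i)) :
    ∑ i, c i • rs B g (x i) = ∑ i, c' i • rs B g (x i) := by
  obtain ⟨S, hS, hd⟩ := P.ker g (fun i => c i - c' i) (by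
    simp only [sub_smul, Finset.sum_sub_distrib, h, sub_self])
  rw [← sub_eq_zero, ← Finset.sum_sub_distrib]
  refine Groth.L15.ExtSupp.sect_ext B S hS _ 0 fun V' k hk => ?_
  obtain ⟨d, hd'⟩ := hd k hk
  refine Eq.trans ?_ (map_zero (rs B k)).symm
  show rs B k _ = 0
  rw [map_sum]
  have e : ∀ i, rs B k (c i • rs B g (x i) - c' i • rs B g (x i)) =
      ∑ j, d j • (rr O (k ≫ g) (P.a j i) • rs B (k ≫ g) (x i)) := fun i => by
    rw [← sub_smul, rs_smul, rs_rs, hd' i, Finset.sum_smul]
    simp only [smul_smul]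
  rw [Finset.sum_congr rfl fun i _ => e i, Finset.sum_comm]
  refine Finset.sum_eq_zero fun j _ => ?_
  rw [← Finset.smul_sum, show ∑ i, rr O (k ≫ g) (P.a j i) • rs B (k ≫ g) (x i) = rs B (k ≫ g) (∑ i, P.a j i • x i) by
    simp only [map_sum, rs_smul], hx, map_zero, smul_zero]

theorem exists_value {x : Fin P.n → ModSite.sect B W} (hx : ∀ j, ∑ i, P.a j i • x i = 0) {U : C} (g : U ⟶ W)
    (e : ModSite.sect F U) :
    ∃ y : ModSite.sect B U, ∀ ⦃V : C⦄ (h : V ⟶ U) (c : Fin P.n → O.obj.obj (op V)),
      rs F h e = ∑ i, c i • rs F (h ≫ g) (P.s i) → rs B h y = ∑ i, c i • rs B (h ≫ g) (x i) := by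
  obtain ⟨S, hS, hd⟩ := P.gen g e
  choose c hc using hd
  have move : ∀ ⦃V V' : C⦄ (k : V' ⟶ V) (h : V ⟶ U) (d : Fin P.n → O.obj.obj (op V)) (N : ModSite.Mod O)
      (z : Fin P.n → ModSite.sect N W),
      rs N k (∑ i, d i • rs N (h ≫ g) (z i)) = ∑ i, rr O k (d i) • rs N ((k ≫ h) ≫ g) (z i) := by
    intro V V' k h d N z
    simp only [map_sum, rs_smul, rs_rs, Category.assoc]
  obtain ⟨y, hy⟩ := sect_glue B S hS (fun V h hh => ∑ i, c h hh i • rs B (h ≫ g) (x i)) (by
    intro V V' h hh k
    rw [move]
    refine P.comb_eq hx _ _ _ ?_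
    rw [← hc (k ≫ h) (S.downward_closed hh k), ← move, ← hc h hh, rs_rs])
  refine ⟨y, fun V h d hd' => Groth.L15.ExtSupp.sect_ext B (S.pullback h) (J.pullback_stable h hS) _ _ fun V' k hk => ?_⟩
  show rs B k (rs B h y) = rs B k _
  rw [rs_rs, hy (k ≫ h) hk, move]
  refine P.comb_eq hx _ _ _ ?_
  rw [← hc (k ≫ h) hk, ← move, ← hd', rs_rs]

variable [ModSite.HasSheafHom F]

/-- Sections of a target killed by the relations give a section of the internal hom. -/
theorem exists_desc (x : Fin P.n → ModSite.sect B W) (hx : ∀ j, ∑ i, P.a j i • x i = 0) :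
    ∃ φ : HomS F B W, ∀ i, evL F φ (P.s i) = x i := by
  choose D₀ hD₀ using fun (U : C) (g : U ⟶ W) (e : ModSite.sect F U) => P.exists_value hx g e
  let D : ∀ ⦃U : C⦄, (U ⟶ W) → (ModSite.sect F U →ₗ[O.obj.obj (op U)] ModSite.sect B U) := fun U g =>
    { toFun := D₀ U g
      map_add' := fun e e' => by
        obtain ⟨S, hS, hd⟩ := P.gen g e
        obtain ⟨S', hS', hd'⟩ := P.gen g e'
        refine Groth.L15.ExtSupp.sect_ext B (S ⊓ S') (J.intersection_covering hS hS') _ _ fun V k hk => ?_
        obtain ⟨c, hc⟩ := hd k hk.1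
        obtain ⟨c', hc'⟩ := hd' k hk.2
        show rs B k _ = rs B k (_ + _)
        rw [map_add, hD₀ U g e k c hc, hD₀ U g e' k c' hc', hD₀ U g (e + e') k (c + c') (by
          simp only [map_add, hc, hc', Pi.add_apply, add_smul, Finset.sum_add_distrib])]
        simp only [Pi.add_apply, add_smul, Finset.sum_add_distrib]
      map_smul' := fun r e => by
        obtain ⟨S, hS, hd⟩ := P.gen g e
        refine Groth.L15.ExtSupp.sect_ext B S hS _ _ fun V k hk => ?_
        obtain ⟨c, hc⟩ := hd k hk
        show rs B k _ = rs B k (r • _)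
        rw [rs_smul, hD₀ U g e k c hc, hD₀ U g (r • e) k (fun i => rr O k r * c i) (by
          simp only [rs_smul, hc, Finset.smul_sum, smul_smul])]
        simp only [Finset.smul_sum, smul_smul] }
  obtain ⟨φ, hφ⟩ := exists_of_family D (fun U U' h g e => by
    obtain ⟨S, hS, hd⟩ := P.gen (h ≫ g) (rs F h e)
    refine Groth.L15.ExtSupp.sect_ext B S hS _ _ fun V k hk => ?_
    obtain ⟨c, hc⟩ := hd k hk
    show rs B k (D₀ U' (h ≫ g) (rs F h e)) = rs B k (rs B h (D₀ U g e))
    rw [hD₀ U' (h ≫ g) (rs F h e) k c hc, rs_rs, hD₀ U g e (k ≫ h) c (by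
      simpa only [rs_rs, Category.assoc] using hc)]
    simp only [Category.assoc])
  have e1 : ∀ (N : ModSite.Mod O) (z : ModSite.sect N W), rs N (𝟙 W) z = z := fun N z => by simp [rs]
  refine ⟨φ, fun i => ?_⟩
  have h1 : evL F φ (P.s i) = D₀ W (𝟙 W) (P.s i) := by
    have h := hφ (𝟙 W) (P.s i)
    rwa [e1] at h
  rw [h1, ← e1 B (D₀ W (𝟙 W) (P.s i)), hD₀ W (𝟙 W) (P.s i) (𝟙 W) (fun j => if j = i then 1 else 0) (by
    rw [Finset.sum_eq_single i (fun j _ hj => by simp [hj]) (fun h => absurd (Finset.mem_univ i) h)]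
    simp only [↓reduceIte, one_smul, Category.comp_id])]
  rw [Finset.sum_eq_single i (fun j _ hj => by simp [hj]) (fun h => absurd (Finset.mem_univ i) h)]
  simp only [↓reduceIte, one_smul, Category.comp_id, e1]

end LPres

end Groth.L15.LocPres
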