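import Groth.Agent.L15.LocPres.HomColim
import Mathlib.CategoryTheory.Yoneda
import Mathlib.CategoryTheory.Limits.Types.Filtered

/-! Homs out of a finitely presented module as global sections of the internal hom. -/

set_option autoImplicit false
set_option backward.isDefEq.respectTransparency false

universe u

open CategoryTheory CategoryTheory.Limits Opposite

noncomputable section

namespace Groth.L15.LocPres

open Groth.L15.FlatCrit Groth.L15.PullFlat

variable {C : Type u} [SmallCategory C] {J : GrothendieckTopology C} {O : Sheaf J CommRingCat.{u}}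

/-- A global section, as a compatible family. -/
structure GFam (M : ModSite.Mod O) where
  /-- the sections -/
  φ : ∀ V : C, ModSite.sect M V
  compat : ∀ ⦃V W : C⦄ (g : W ⟶ V), rs M g (φ V) = φ W

/-- The difference of two families. -/
def GFam.sub {M : ModSite.Mod O} (a b : GFam M) : GFam M :=
  ⟨fun V => a.φ V - b.φ V, fun V W g => by rw [map_sub, a.compat, b.compat]⟩

/-- The image of a family. -/
def GFam.map {M N : ModSite.Mod O} (f : M ⟶ N) (a : GFam M) : GFam N :=
  ⟨fun V => ap f (a.φ V), fun V W g => by rw [rs_ap, a.compat]⟩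

variable {Λ : Type u} [SmallCategory Λ] {E : Λ ⥤ ModSite.Mod O}

/-- Global sections of the point of a cocone come from some stage. -/
def GLift (e : Cocone E) : Prop :=
  ∀ φ : GFam e.pt, ∃ (j : Λ) (ψ : GFam (E.obj j)), ∀ V, ap (e.ι.app j) (ψ.φ V) = φ.φ V

/-- Global sections vanishing in the point of a cocone vanish at a later stage. -/
def GZero (e : Cocone E) : Prop :=
  ∀ (j : Λ) (ψ : GFam (E.obj j)), (∀ V, ap (e.ι.app j) (ψ.φ V) = 0) →
    ∃ (k : Λ) (f : j ⟶ k), ∀ V, ap (E.map f) (ψ.φ V) = 0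

variable (F : ModSite.Mod O) [ModSite.HasSheafHom F] {B : ModSite.Mod O}

theorem rs_id {M : ModSite.Mod O} {V : C} (x : ModSite.sect M V) : rs M (𝟙 V) x = x := by simp [rs]

/-- The morphism given by a global section of the internal hom. -/
def homOfFam (a : GFam ((ModSite.sheafHom F).obj B)) : F ⟶ B :=
  ⟨{ app := fun V => ModuleCat.ofHom (X := F.val.obj V) (Y := B.val.obj V) (evL F (a.φ V.unop))
     naturality := fun {V W} g => ModuleCat.hom_ext (LinearMap.ext fun e => by
       show evL F (a.φ W.unop) (rs F g.unop e) = rs B g.unop (evL F (a.φ V.unop) e)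
       rw [evL_res, a.compat]) }⟩

theorem homOfFam_app (a : GFam ((ModSite.sheafHom F).obj B)) {V : C} (e : ModSite.sect F V) :
    ap (homOfFam F a) e = evL F (a.φ V) e := rfl

theorem exists_fam (x : F ⟶ B) :
    ∃ a : GFam ((ModSite.sheafHom F).obj B), ∀ (V : C) (e : ModSite.sect F V), evL F (a.φ V) e = ap x e := by
  choose φ hφ using fun V : C => exists_of_family (F := F) (B := B) (W := V)
    (fun U _ => ((x.val.app (op U)).hom : ModSite.sect F U →ₗ[O.obj.obj (op U)] ModSite.sect B U))
    (fun U U' h g e => (Groth.L15.ExtSupp.res_natural x h e).symm)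
  refine ⟨⟨φ, fun V W g => hom_ext_ev _ _ fun U h e => ?_⟩, fun V e => ?_⟩
  · rw [rs_rs, hφ, hφ]
  · have h := hφ V (𝟙 V) e
    rwa [rs_id] at h

variable [IsFiltered Λ] {D : Λ ⥤ ModSite.Mod O} {c : Cocone D}

/-- Homs commute with a colimit when global sections of the internal homs do. -/
theorem preservesColimit_coyoneda (hc : IsColimit c) (hl : GLift ((ModSite.sheafHom F).mapCocone c))
    (hz : GZero ((ModSite.sheafHom F).mapCocone c)) :
    PreservesColimit D (coyoneda.obj (op F)) := by
  refine preservesColimit_of_preserves_colimit_cocone hc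
    (Types.FilteredColimit.isColimitOf' _ _ (fun x => ?_) fun j x y hxy => ?_)
  · obtain ⟨a, ha⟩ := exists_fam F (B := c.pt) x
    obtain ⟨j, ψ, hψ⟩ := hl a
    refine ⟨j, homOfFam F ψ, SheafOfModules.Hom.ext (PresheafOfModules.hom_ext fun V => ModuleCat.hom_ext
      (LinearMap.ext fun e => ?_))⟩
    show ap (x : F ⟶ c.pt) e = ap (c.ι.app j) (ap (homOfFam F ψ) e)
    rw [homOfFam_app, ← evL_ap, ← ha V.unop e]
    exact congrArg (fun t => evL F t e) (hψ V.unop).symm
  · let x' : F ⟶ D.obj j := x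
    let y' : F ⟶ D.obj j := y
    have hxy' : x' ≫ c.ι.app j = y' ≫ c.ι.app j := hxy
    obtain ⟨a, ha⟩ := exists_fam F (B := D.obj j) (x' - y')
    have h0 : ∀ V, ap ((ModSite.sheafHom F).map (c.ι.app j)) (a.φ V) = 0 := fun V => hom_ext_ev _ _ fun U g e => by
      rw [map_zero, evL_zero, rs_ap, a.compat, evL_ap, ha]
      show ap ((x' - y') ≫ c.ι.app j) e = 0
      rw [Preadditive.sub_comp, sub_eq_zero.2 hxy']
      rfl
    obtain ⟨k, f, hk⟩ := hz j a h0
    refine ⟨k, f, show x' ≫ D.map f = y' ≫ D.map f from sub_eq_zero.1 ?_⟩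
    rw [← Preadditive.sub_comp]
    refine SheafOfModules.Hom.ext (PresheafOfModules.hom_ext fun V => ModuleCat.hom_ext (LinearMap.ext fun e => ?_))
    show ap (D.map f) (ap (x' - y') e) = 0
    rw [← ha, ← evL_ap]
    exact (congrArg (fun t => evL F t e) (hk V.unop)).trans (evL_zero F e)

omit [ModSite.HasSheafHom F] in
/-- Finitely many arrows out of an object have a common extension. -/
theorem exists_common_stage {j : Λ} {n : ℕ} (k : Fin n → Λ) (f : ∀ i, j ⟶ k i) :
    ∃ (m : Λ) (g : j ⟶ m), ∀ i, ∃ p : k i ⟶ m, f i ≫ p = g := by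
  induction n with
  | zero => exact ⟨j, 𝟙 j, fun i => i.elim0⟩
  | succ n ih =>
    obtain ⟨m, g, hg⟩ := ih (fun i => k i.succ) fun i => f _
    obtain ⟨m', p, q, hpq⟩ := IsFiltered.span (f 0) g
    refine ⟨m', f 0 ≫ p, Fin.cases ⟨p, rfl⟩ fun i => ?_⟩
    obtain ⟨r, hr⟩ := hg i
    exact ⟨r ≫ q, by rw [← Category.assoc, hr, hpq]⟩

omit [ModSite.HasSheafHom F] in
/-- Finitely many arrows out of an object have a common extension. -/
theorem exists_common_stage' {j : Λ} {ι : Type*} [Finite ι] (k : ι → Λ) (f : ∀ i, j ⟶ k i) :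
    ∃ (m : Λ) (g : j ⟶ m), ∀ i, ∃ p : k i ⟶ m, f i ≫ p = g := by
  obtain ⟨n, ⟨e⟩⟩ := Finite.exists_equiv_fin ι
  obtain ⟨m, g, hg⟩ := exists_common_stage (fun a => k (e.symm a)) fun a => f (e.symm a)
  refine ⟨m, g, fun i => ?_⟩
  have h := hg (e i)
  generalize he : e.symm (e i) = i' at h
  rw [Equiv.symm_apply_apply] at he
  subst he
  exact h

/-- A vanishing at some stage persists. -/
theorem ap_map_zero {j k m : Λ} (f : j ⟶ k) (p : k ⟶ m) {V : C} (x : ModSite.sect (D.obj j) V)
    (h : ap (D.map f) x = 0) : ap (D.map (f ≫ p)) x = 0 := by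
  rw [D.map_comp, ap_comp, h, map_zero]

end Groth.L15.LocPres
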