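import Groth.Agent.L15.LocPres.GlobalHom
import Groth.Agent.L10.SiteFr
import Groth.Prelude.Def_CohCx
import Mathlib.CategoryTheory.Sites.EpiMono
import Mathlib.CategoryTheory.Filtered.Basic

/-! Global sections of filtered colimits on sites with enough quasi-separated coverings of the final object. -/

set_option autoImplicit false
set_option backward.isDefEq.respectTransparency false

universe u

open CategoryTheory CategoryTheory.Limits Opposite

noncomputable section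

namespace Groth.L15.LocPres

open Groth.L15.FlatCrit Groth.L15.PullFlat Groth.L10.SiteFr

variable {C : Type u} [SmallCategory C] {J : GrothendieckTopology C}

theorem repEquiv_symm_unit (K : Sheaf J (Type u)) {V W : C} (κ : K.obj.obj (op V)) (h : W ⟶ V) :
    ((repEquiv V K).symm κ).hom.app (op W) ((CategoryTheory.toSheafify J (yoneda.obj V)).app (op W) h) =
      K.obj.map h.op κ := by
  let a := (repEquiv V K).symm κ
  let b : yoneda.obj V ⟶ K.obj := ((sheafificationAdjunction J (Type u)).homEquiv (yoneda.obj V) K) a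
  have hb : b.app (op V) (𝟙 V) = κ := (repEquiv V K).apply_symm_apply κ
  have h1 : b.app (op W) h = K.obj.map h.op (b.app (op V) (𝟙 V)) := by
    refine Eq.trans ?_ (NatTrans.naturality_apply b h.op (𝟙 V))
    exact congrArg (b.app (op W)) (Category.comp_id h).symm
  have h2 : b = CategoryTheory.toSheafify J (yoneda.obj V) ≫ a.hom :=
    (sheafificationAdjunction J (Type u)).homEquiv_unit _ _ a
  exact (congr(($h2).app (op W) h)).symm.trans (h1.trans (congrArg (K.obj.map h.op) hb))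

/-- Over a quasi-compact sheaf of sets, a property holding locally comes from finitely many sections. -/
theorem qc_elem (K : Sheaf J (Type u)) (hK : CohCx.IsQcObject K) (good : ∀ V : C, K.obj.obj (op V) → Prop)
    (hgood : ∀ (V : C) (κ : K.obj.obj (op V)), ∃ S ∈ J V, ∀ ⦃W : C⦄ (g : W ⟶ V), S g → good W (K.obj.map g.op κ)) :
    ∃ (T : Type u) (_ : Finite T) (V : T → C) (κ : ∀ i, K.obj.obj (op (V i))), (∀ i, good _ (κ i)) ∧
      ∀ (U : C) (s : K.obj.obj (op U)), ∃ S ∈ J U, ∀ ⦃W : C⦄ (g : W ⟶ U), S g →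
        ∃ (i : T) (h : W ⟶ V i), K.obj.map h.op (κ i) = K.obj.map g.op s := by
  let I := Σ V : C, {κ : K.obj.obj (op V) // good V κ}
  let f : ∀ i : I, rep J i.1 ⟶ K := fun i => (repEquiv i.1 K).symm i.2.1
  have hf : CohCx.JointlySurjective f := fun U s => by
    obtain ⟨S, hS, hd⟩ := hgood U s
    refine ⟨S, hS, fun W g hg => ?_⟩
    refine ⟨⟨W, K.obj.map g.op s, hd g hg⟩, (CategoryTheory.toSheafify J (yoneda.obj W)).app (op W) (𝟙 W), ?_⟩
    refine (repEquiv_symm_unit K (K.obj.map g.op s) (𝟙 W)).trans ?_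
    simp
  obtain ⟨t, ht⟩ := hK I _ f hf
  refine ⟨t, inferInstance, fun i => i.1.1, fun i => i.1.2.1, fun i => i.1.2.2, fun U s => ?_⟩
  obtain ⟨S, hS, hd⟩ := ht U s
  refine exists_sieve_bind _ hS fun W g hg => ?_
  obtain ⟨i, x, hx⟩ := hd W g hg
  refine ⟨_, Presheaf.imageSieve_mem J (CategoryTheory.toSheafify J (yoneda.obj i.1.1)) (U := op W) x, fun W' r hr => ?_⟩
  obtain ⟨h, hh⟩ := hr
  refine ⟨i, h, (repEquiv_symm_unit K i.1.2.1 h).symm.trans ?_⟩
  refine (congrArg ((f i.1).hom.app (op W')) hh).trans ?_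
  refine (NatTrans.naturality_apply (f i.1).hom r.op x).trans ?_
  rw [hx, op_comp, K.obj.map_comp]
  rfl

theorem subsingleton_terminal_sect (V : C) : Subsingleton ((⊤_ Sheaf J (Type u)).obj.obj (op V)) :=
  ⟨fun _ _ => (repEquiv V (⊤_ Sheaf J (Type u))).symm.injective (Subsingleton.elim _ _)⟩

theorem exists_cover_of_epi {K : Sheaf J (Type u)} (hK : Epi (terminal.from K)) (V : C) :
    ∃ S ∈ J V, ∀ ⦃W : C⦄ (g : W ⟶ V), S g → Nonempty (K.obj.obj (op W)) := by
  haveI : Sheaf.IsLocallySurjective (terminal.from K) := (Sheaf.isLocallySurjective_iff_epi _).2 hK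
  refine ⟨_, Presheaf.imageSieve_mem J (terminal.from K).hom (U := op V)
    (repEquiv V (⊤_ Sheaf J (Type u)) (terminal.from _)), fun W g hg => ?_⟩
  obtain ⟨x, -⟩ := hg
  exact ⟨x⟩

theorem exists_pair {K : Sheaf J (Type u)} {V : C} (a b : K.obj.obj (op V)) :
    ∃ x : (K ⨯ K).obj.obj (op V), (prod.fst : K ⨯ K ⟶ K).hom.app (op V) x = a ∧
      (prod.snd : K ⨯ K ⟶ K).hom.app (op V) x = b := by
  refine ⟨repEquiv V (K ⨯ K) (prod.lift ((repEquiv V K).symm a) ((repEquiv V K).symm b)), ?_, ?_⟩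
  · rw [← repEquiv_comp, prod.lift_fst, Equiv.apply_symm_apply]
  · rw [← repEquiv_comp, prod.lift_snd, Equiv.apply_symm_apply]

variable {O : Sheaf J CommRingCat.{u}} (S : Set (Sheaf J (Type u)))
  (hSa : ∀ F : Sheaf J (Type u), Epi (terminal.from F) → ∃ K ∈ S, Epi (terminal.from K) ∧ Nonempty (K ⟶ F))
  (hSb : ∀ K ∈ S, CohCx.IsQcObject (K ⨯ K))
  {Λ : Type u} [SmallCategory Λ] [IsFiltered Λ] {E : Λ ⥤ ModSite.Mod O} {e : Cocone E} (he : IsColimit e)

include hSa hSb he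

theorem gZero_topos : GZero e := by
  intro j ψ hψ
  haveI : Epi (terminal.from (⊤_ Sheaf J (Type u))) := by
    rw [show terminal.from (⊤_ Sheaf J (Type u)) = 𝟙 _ from Subsingleton.elim _ _]
    infer_instance
  obtain ⟨K, hKS, hK, -⟩ := hSa _ this
  obtain ⟨T, _, V, κ, hgood, hcov⟩ := qc_elem (K ⨯ K) (hSb K hKS)
    (fun W _ => ∃ (k : Λ) (f : j ⟶ k), ap (E.map f) (ψ.φ W) = 0) (fun U _ => by
      obtain ⟨R, hR, hd⟩ := exists_zero he j (ψ.φ U) (hψ U)
      refine ⟨R, hR, fun W g hg => ?_⟩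
      obtain ⟨k, f, hf⟩ := hd g hg
      exact ⟨k, f, by rw [← ψ.compat g]; exact hf⟩)
  choose k f hf using hgood
  obtain ⟨m, g, hg⟩ := exists_common_stage' k f
  refine ⟨m, g, fun U => ?_⟩
  obtain ⟨R, hR, hRd⟩ := exists_cover_of_epi hK U
  refine Groth.L15.ExtSupp.sect_ext _ R hR _ 0 fun W q hq => ?_
  show rs _ q (ap (E.map g) (ψ.φ U)) = rs _ q 0
  rw [map_zero, rs_ap, ψ.compat]
  obtain ⟨a⟩ := hRd q hq
  obtain ⟨x, -, -⟩ := exists_pair a a
  obtain ⟨R', hR', hR'd⟩ := hcov W x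
  refine Groth.L15.ExtSupp.sect_ext _ R' hR' _ 0 fun W' r hr => ?_
  show rs _ r (ap (E.map g) (ψ.φ W)) = rs _ r 0
  obtain ⟨i, h, -⟩ := hR'd r hr
  obtain ⟨p, hp⟩ := hg i
  rw [map_zero, rs_ap, ψ.compat, ← ψ.compat h, ← rs_ap, ← hp, ap_map_zero _ p _ (hf i), map_zero]

theorem gLift_topos : GLift e := by
  intro φ
  classical
  let P : Cᵒᵖ ⥤ Type u :=
    { obj := fun U => Σ j : Λ, {y : ModSite.sect (E.obj j) U.unop // ap (e.ι.app j) y = φ.φ U.unop}
      map := fun {U U'} g => ↾fun p => ⟨p.1, rs (E.obj p.1) g.unop p.2.1,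
        ((rs_ap (e.ι.app p.1) g.unop p.2.1).symm.trans (congrArg (rs e.pt g.unop) p.2.2)).trans (φ.compat g.unop)⟩
      map_id := fun U => by
        refine ConcreteCategory.hom_ext _ _ fun p => ?_
        obtain ⟨j, y, hy⟩ := p
        exact Sigma.ext rfl (heq_of_eq (Subtype.ext (rs_id y)))
      map_comp := fun {U U' U''} g g' => by
        refine ConcreteCategory.hom_ext _ _ fun p => ?_
        obtain ⟨j, y, hy⟩ := p
        exact Sigma.ext rfl (heq_of_eq (Subtype.ext (rs_rs (E.obj j) g.unop g'.unop y).symm)) }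
  let A : Sheaf J (Type u) := (presheafToSheaf J (Type u)).obj P
  let η : P ⟶ A.obj := CategoryTheory.toSheafify J P
  have hA : Epi (terminal.from A) := by
    refine (Sheaf.isLocallySurjective_iff_epi _).1 ⟨fun {U} s => ?_⟩
    obtain ⟨R, hR, hd⟩ := exists_lift he (φ.φ U)
    refine J.superset_covering (fun W g hg => ?_) hR
    obtain ⟨j, y, hy⟩ := hd g hg
    haveI := subsingleton_terminal_sect (J := J) W
    exact ⟨η.app (op W) (⟨j, y, hy.trans (φ.compat g)⟩ : P.obj (op W)), Subsingleton.elim _ _⟩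
  obtain ⟨K, hKS, hK, ⟨α⟩⟩ := hSa A hA
  let pr₁ : K ⨯ K ⟶ K := prod.fst
  let pr₂ : K ⨯ K ⟶ K := prod.snd
  -- finitely many stages
  obtain ⟨T, _, V, κ, hgood, hcov⟩ := qc_elem (K ⨯ K) (hSb K hKS)
    (fun W x => ∃ p : P.obj (op W), η.app (op W) p = α.hom.app (op W) (pr₁.hom.app (op W) x)) (fun U x => by
      refine ⟨_, Presheaf.imageSieve_mem J η (U := op U) (α.hom.app (op U) (pr₁.hom.app (op U) x)), fun W g hg => ?_⟩
      obtain ⟨p, hp⟩ := hg
      refine ⟨p, hp.trans ?_⟩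
      rw [NatTrans.naturality_apply pr₁.hom g.op x, NatTrans.naturality_apply α.hom g.op])
  choose p hp using hgood
  haveI : Fintype T := Fintype.ofFinite T
  let Js : Finset Λ := Finset.univ.image fun i => (p i).1
  obtain ⟨m, hm⟩ := IsFiltered.sup_objs_exists Js
  let fj : ∀ i : Js, i.1 ⟶ m := fun i => (hm i.2).some
  let adv : ∀ (U : C) (q : P.obj (op U)), q.1 ∈ Js → ModSite.sect (E.obj m) U := fun U q hq =>
    ap (E.map (fj ⟨q.1, hq⟩)) q.2.1
  have hadv_res : ∀ (U W : C) (g : W ⟶ U) (q : P.obj (op U)) (hq : q.1 ∈ Js),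
      adv W (P.map g.op q) hq = rs _ g (adv U q hq) := fun U W g q hq => (rs_ap _ g q.2.1).symm
  have hadv_congr : ∀ (U : C) (q q' : P.obj (op U)) (hq : q.1 ∈ Js) (hq' : q'.1 ∈ Js), q = q' →
      adv U q hq = adv U q' hq' := fun U q q' hq hq' h => by subst h; rfl
  have hwell : ∀ (U : C) (q q' : P.obj (op U)) (hq : q.1 ∈ Js) (hq' : q'.1 ∈ Js),
      η.app (op U) q = η.app (op U) q' → adv U q hq = adv U q' hq' := by
    intro U q q' hq hq' h
    refine Groth.L15.ExtSupp.sect_ext _ _ (Presheaf.equalizerSieve_mem J η q q' h) _ _ fun W g hg => ?_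
    exact ((hadv_res U W g q hq).symm.trans (hadv_congr W _ _ hq hq' hg)).trans (hadv_res U W g q' hq')
  have hnat : ∀ {U W : C} (g : W ⟶ U) (x : K.obj.obj (op U)),
      A.obj.map g.op (α.hom.app (op U) x) = α.hom.app (op W) (K.obj.map g.op x) := fun g x =>
    (NatTrans.naturality_apply α.hom g.op x).symm
  -- lifts of the sections attached to elements of `K`
  have hex : ∀ (U : C) (a : K.obj.obj (op U)), ∃ w : ModSite.sect (E.obj m) U,
      ∀ (W : C) (g : W ⟶ U) (q : P.obj (op W)) (hq : q.1 ∈ Js),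
        η.app (op W) q = α.hom.app (op W) (K.obj.map g.op a) → rs (E.obj m) g w = adv W q hq := by
    intro U a
    let R : Sieve U :=
      { arrows := fun W g => ∃ (q : P.obj (op W)) (_ : q.1 ∈ Js), η.app (op W) q = α.hom.app (op W) (K.obj.map g.op a)
        downward_closed := fun {W W'} g ⟨q, hq, h⟩ k => ⟨P.map k.op q, hq, by
          rw [NatTrans.naturality_apply η k.op q, h]
          refine (hnat k (K.obj.map g.op a)).trans ?_
          rw [op_comp, K.obj.map_comp]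
          rfl⟩ }
    have hR : R ∈ J U := by
      obtain ⟨x, hx, -⟩ := exists_pair a a
      obtain ⟨S₀, hS₀, hd⟩ := hcov U x
      refine J.superset_covering (fun W g hg => ?_) hS₀
      obtain ⟨i, h, hh⟩ := hd g hg
      refine ⟨P.map h.op (p i), Finset.mem_image_of_mem _ (Finset.mem_univ i), ?_⟩
      rw [NatTrans.naturality_apply η h.op, hp i, hnat]
      have e1 : K.obj.map h.op (pr₁.hom.app (op (V i)) (κ i)) = K.obj.map g.op (pr₁.hom.app (op U) x) := by
        rw [← NatTrans.naturality_apply pr₁.hom h.op, ← NatTrans.naturality_apply pr₁.hom g.op, hh]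
      rw [e1, hx]
    obtain ⟨w, hw⟩ := sect_glue (E.obj m) R hR (fun W g hg => adv W hg.choose hg.choose_spec.choose) (by
      intro W W' g hg k
      refine ((hadv_res _ _ k _ _).symm).trans (hwell _ _ _ _ _ ?_)
      rw [NatTrans.naturality_apply η k.op, hg.choose_spec.choose_spec,
        (R.downward_closed hg k).choose_spec.choose_spec, hnat k, op_comp, K.obj.map_comp]
      rfl)
    refine ⟨w, fun W g q hq h => ?_⟩
    exact (hw g ⟨q, hq, h⟩).trans (hwell W _ _ _ hq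
      ((Exists.choose_spec (Exists.choose_spec (⟨q, hq, h⟩ : R g))).trans h.symm))
  choose Ψ hΨ using hex
  have hΨr : ∀ (U W : C) (g : W ⟶ U) (a : K.obj.obj (op U)), rs (E.obj m) g (Ψ U a) = Ψ W (K.obj.map g.op a) := by
    intro U W g a
    obtain ⟨x, hx, -⟩ := exists_pair (K.obj.map g.op a) (K.obj.map g.op a)
    obtain ⟨S₀, hS₀, hd⟩ := hcov W x
    refine Groth.L15.ExtSupp.sect_ext _ S₀ hS₀ _ _ fun W' k hk => ?_
    obtain ⟨i, h, hh⟩ := hd k hk
    have hq : η.app (op W') (P.map h.op (p i)) = α.hom.app (op W') (K.obj.map k.op (K.obj.map g.op a)) := by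
      rw [NatTrans.naturality_apply η h.op, hp i, hnat]
      refine congrArg (α.hom.app (op W')) ?_
      rw [← NatTrans.naturality_apply pr₁.hom h.op, hh, NatTrans.naturality_apply pr₁.hom k.op, hx]
    have hmem : (P.map h.op (p i)).1 ∈ Js := Finset.mem_image_of_mem _ (Finset.mem_univ i)
    show rs _ k (rs _ g (Ψ U a)) = rs _ k (Ψ W _)
    rw [rs_rs, hΨ U a W' (k ≫ g) _ hmem (hq.trans (by rw [op_comp, K.obj.map_comp]; rfl)),
      hΨ W _ W' k _ hmem hq]
  have hΨι : ∀ (U : C) (a : K.obj.obj (op U)), ap (e.ι.app m) (Ψ U a) = φ.φ U := by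
    intro U a
    obtain ⟨x, hx, -⟩ := exists_pair a a
    obtain ⟨S₀, hS₀, hd⟩ := hcov U x
    refine Groth.L15.ExtSupp.sect_ext _ S₀ hS₀ _ _ fun W k hk => ?_
    obtain ⟨i, h, hh⟩ := hd k hk
    have hq : η.app (op W) (P.map h.op (p i)) = α.hom.app (op W) (K.obj.map k.op a) := by
      rw [NatTrans.naturality_apply η h.op, hp i, hnat]
      refine congrArg (α.hom.app (op W)) ?_
      rw [← NatTrans.naturality_apply pr₁.hom h.op, hh, NatTrans.naturality_apply pr₁.hom k.op, hx]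
    have hmem : (P.map h.op (p i)).1 ∈ Js := Finset.mem_image_of_mem _ (Finset.mem_univ i)
    show rs _ k (ap (e.ι.app m) (Ψ U a)) = rs _ k (φ.φ U)
    rw [rs_ap, hΨ U a W k _ hmem hq]
    exact ((ap_w e (fj ⟨_, hmem⟩) _).trans (P.map h.op (p i)).2.2).trans (φ.compat k).symm
  -- the lifts agree at a later stage
  obtain ⟨T', _, V', κ', hgood', hcov'⟩ := qc_elem (K ⨯ K) (hSb K hKS)
    (fun W x => ∃ (k : Λ) (f : m ⟶ k),
      ap (E.map f) (Ψ W (pr₁.hom.app (op W) x)) = ap (E.map f) (Ψ W (pr₂.hom.app (op W) x))) (fun U x => by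
      have h0 : ap (e.ι.app m) (Ψ U (pr₁.hom.app (op U) x) - Ψ U (pr₂.hom.app (op U) x)) = 0 := by
        rw [map_sub, hΨι, hΨι]
        exact sub_self _
      obtain ⟨R, hR, hd⟩ := exists_zero he m _ h0
      refine ⟨R, hR, fun W g hg => ?_⟩
      obtain ⟨k, f, hf⟩ := hd g hg
      refine ⟨k, f, ?_⟩
      rw [map_sub, map_sub, sub_eq_zero, hΨr, hΨr] at hf
      rwa [NatTrans.naturality_apply pr₁.hom g.op x, NatTrans.naturality_apply pr₂.hom g.op x])
  choose k f hf using hgood'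
  obtain ⟨M, F', hF⟩ := exists_common_stage' k f
  have hconst : ∀ (U : C) (a b : K.obj.obj (op U)), ap (E.map F') (Ψ U a) = ap (E.map F') (Ψ U b) := by
    intro U a b
    obtain ⟨x, hxa, hxb⟩ := exists_pair a b
    obtain ⟨S₀, hS₀, hd⟩ := hcov' U x
    refine Groth.L15.ExtSupp.sect_ext _ S₀ hS₀ _ _ fun W q hq => ?_
    obtain ⟨i, h, hh⟩ := hd q hq
    obtain ⟨r, hr⟩ := hF i
    have h1 : ap (E.map F') (Ψ (V' i) (pr₁.hom.app _ (κ' i))) = ap (E.map F') (Ψ (V' i) (pr₂.hom.app _ (κ' i))) := by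
      rw [← hr, E.map_comp, ap_comp, ap_comp, hf i]
    have h2 := congrArg (rs (E.obj M) h) h1
    rw [rs_ap, rs_ap, hΨr, hΨr, ← NatTrans.naturality_apply pr₁.hom h.op, ← NatTrans.naturality_apply pr₂.hom h.op,
      hh, NatTrans.naturality_apply pr₁.hom q.op, NatTrans.naturality_apply pr₂.hom q.op, hxa, hxb] at h2
    show rs _ q _ = rs _ q _
    rw [rs_ap, rs_ap, hΨr, hΨr]
    exact h2
  have hθ : ∀ U : C, ∃ w : ModSite.sect (E.obj M) U, ∀ (W : C) (g : W ⟶ U) (a : K.obj.obj (op W)),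
      rs (E.obj M) g w = ap (E.map F') (Ψ W a) := by
    intro U
    obtain ⟨S₀, hS₀, hd⟩ := exists_cover_of_epi hK U
    obtain ⟨w, hw⟩ := sect_glue (E.obj M) S₀ hS₀ (fun W g hg => ap (E.map F') (Ψ W (hd g hg).some)) (by
      intro W W' g hg r
      rw [rs_ap, hΨr]
      exact hconst W' _ _)
    refine ⟨w, fun W g a => Groth.L15.ExtSupp.sect_ext _ (S₀.pullback g) (J.pullback_stable g hS₀) _ _ fun W' r hr => ?_⟩
    show rs _ r (rs _ g w) = rs _ r _
    rw [rs_rs, hw _ hr, rs_ap, hΨr]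
    exact hconst W' _ _
  choose θ hθ using hθ
  refine ⟨M, ⟨θ, fun U U' r => ?_⟩, fun U => ?_⟩
  · obtain ⟨S₀, hS₀, hd⟩ := exists_cover_of_epi hK U'
    refine Groth.L15.ExtSupp.sect_ext _ S₀ hS₀ _ _ fun W q hq => ?_
    obtain ⟨a⟩ := hd q hq
    show rs _ q (rs _ r (θ U)) = rs _ q (θ U')
    rw [rs_rs, hθ U W _ a, hθ U' W q a]
  · obtain ⟨S₀, hS₀, hd⟩ := exists_cover_of_epi hK U
    refine Groth.L15.ExtSupp.sect_ext _ S₀ hS₀ _ _ fun W q hq => ?_
    obtain ⟨a⟩ := hd q hq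
    show rs _ q (ap (e.ι.app M) (θ U)) = rs _ q (φ.φ U)
    rw [rs_ap, hθ U W q a, ap_w, hΨι]
    exact (φ.compat q).symm

end Groth.L15.LocPres
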